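import Mathlib

/-!
A transitive permutation group with a normal subgroup of order prime to three, generated over it
by a three-cycle, has degree at most four.
-/

set_option autoImplicit false

namespace Cfsg.Agent.Lib.CubicBlock

open Equiv

/-- Three-element sets meeting pairwise in two points, without a common point. -/
theorem card_le_four_of_triples {ι : Type*} [Fintype ι] [DecidableEq ι] (𝒮 : Set (Finset ι))
    (hne : 𝒮.Nonempty) (h3 : ∀ s ∈ 𝒮, s.card = 3) (h2 : ∀ s ∈ 𝒮, ∀ t ∈ 𝒮, 2 ≤ (s ∩ t).card)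
    (hcov : ∀ i, ∃ s ∈ 𝒮, i ∈ s) (hall : ∀ i, (∀ s ∈ 𝒮, i ∈ s) → ∀ s ∈ 𝒮, ∀ j, j ∈ s) :
    Fintype.card ι ≤ 4 := by
  obtain ⟨s, hs⟩ := hne
  by_cases hone : ∀ t ∈ 𝒮, t = s
  · have : (Finset.univ : Finset ι) ⊆ s := fun i _ => by
      obtain ⟨t, ht, hit⟩ := hcov i
      rwa [hone t ht] at hit
    have := Finset.card_le_card this
    rw [Finset.card_univ, h3 s hs] at this
    omega
  push_neg at hone
  obtain ⟨t, ht, hts⟩ := hone
  have hst : (s ∩ t).card = 2 := by
    refine le_antisymm ?_ (h2 s hs t ht)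
    by_contra hc
    have h1 : s ∩ t = s := Finset.eq_of_subset_of_card_le Finset.inter_subset_left (by
      rw [h3 s hs]; omega)
    have h4 : s ⊆ t := fun x hx => Finset.mem_of_mem_inter_right (h1.symm ▸ hx : x ∈ s ∩ t)
    exact hts (Finset.eq_of_subset_of_card_le h4 (by rw [h3 s hs, h3 t ht])).symm
  have hun : (s ∪ t).card = 4 := by
    have := Finset.card_union_add_card_inter s t
    rw [h3 s hs, h3 t ht, hst] at this
    omega
  by_cases hin : ∀ u ∈ 𝒮, u ⊆ s ∪ t
  · have : (Finset.univ : Finset ι) ⊆ s ∪ t := fun i _ => by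
      obtain ⟨u, hu, hiu⟩ := hcov i
      exact hin u hu hiu
    have := Finset.card_le_card this
    rw [Finset.card_univ, hun] at this
    exact this
  exfalso
  push_neg at hin
  obtain ⟨u, hu, hu'⟩ := hin
  obtain ⟨e, heu, he⟩ := Finset.not_subset.1 hu'
  rw [Finset.mem_union, not_or] at he
  have key : ∀ w, w ∈ 𝒮 → e ∉ w → u ∩ w = u.erase e := by
    intro w hw hew
    refine Finset.eq_of_subset_of_card_le (fun x hx => ?_) ?_
    · rw [Finset.mem_inter] at hx
      exact Finset.mem_erase.2 ⟨fun h => hew (h ▸ hx.2), hx.1⟩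
    · rw [Finset.card_erase_of_mem heu, h3 u hu]
      exact h2 u hu w hw
  have hus := key s hs he.1
  have hut := key t ht he.2
  have hP : u.erase e = s ∩ t := by
    refine Finset.eq_of_subset_of_card_le (fun x hx => ?_) ?_
    · exact Finset.mem_inter.2 ⟨Finset.mem_of_mem_inter_right (hus.symm ▸ hx : x ∈ u ∩ s),
        Finset.mem_of_mem_inter_right (hut.symm ▸ hx : x ∈ u ∩ t)⟩
    · rw [hst, Finset.card_erase_of_mem heu, h3 u hu]
  obtain ⟨p, p', hpp, hPeq⟩ := Finset.card_eq_two.1 hst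
  obtain ⟨x, hx, hxt⟩ : ∃ x ∈ s, x ∉ t := by
    by_contra h
    push_neg at h
    exact hts (Finset.eq_of_subset_of_card_le h (by rw [h3 s hs, h3 t ht])).symm
  obtain ⟨y, hy, hys⟩ : ∃ y ∈ t, y ∉ s := by
    by_contra h
    push_neg at h
    exact hts (Finset.eq_of_subset_of_card_le h (by rw [h3 s hs, h3 t ht]))
  have hpall : ∀ v ∈ 𝒮, p ∈ v := by
    intro v hv
    by_contra hpv
    have two : ∀ w ∈ 𝒮, p ∈ w → ∀ z ∈ w, z ≠ p → z ∈ v := by
      intro w hw hpw z hz hzp
      have : v ∩ w = w.erase p := by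
        refine Finset.eq_of_subset_of_card_le (fun a ha => ?_) ?_
        · rw [Finset.mem_inter] at ha
          exact Finset.mem_erase.2 ⟨fun h => hpv (h ▸ ha.1), ha.2⟩
        · rw [Finset.card_erase_of_mem hpw, h3 w hw]
          exact h2 v hv w hw
      exact Finset.mem_of_mem_inter_left
        (this.symm ▸ Finset.mem_erase.2 ⟨hzp, hz⟩ : z ∈ v ∩ w)
    have hps : p ∈ s ∩ t := by rw [hPeq]; simp
    have hp's : p' ∈ s ∩ t := by rw [hPeq]; simp
    have hpu : p ∈ u := Finset.mem_of_mem_erase (hP ▸ hps)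
    rw [Finset.mem_inter] at hps hp's
    have h1 := two s hs hps.1 p' hp's.1 hpp.symm
    have h4 := two s hs hps.1 x hx (fun h => hxt (h ▸ hps.2))
    have h5 := two t ht hps.2 y hy (fun h => hys (h ▸ hps.1))
    have h6 := two u hu hpu e heu (fun h => he.1 (h ▸ hps.1))
    have hsub : ({p', x, y, e} : Finset ι) ⊆ v := by
      intro a ha
      simp only [Finset.mem_insert, Finset.mem_singleton] at ha
      rcases ha with rfl | rfl | rfl | rfl <;> assumption
    have n1 : p' ≠ x := fun h => hxt (h ▸ hp's.2)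
    have n2 : p' ≠ y := fun h => hys (h ▸ hp's.1)
    have n3 : p' ≠ e := fun h => he.1 (h ▸ hp's.1)
    have n4 : x ≠ y := fun h => hys (h ▸ hx)
    have n5 : x ≠ e := fun h => he.1 (h ▸ hx)
    have n6 : y ≠ e := fun h => he.2 (h ▸ hy)
    have := Finset.card_le_card hsub
    rw [h3 v hv] at this
    simp [n1, n2, n3, n4, n5, n6] at this
  exact he.1 (hall p hpall s hs e)

theorem support_three {ι : Type*} [Fintype ι] [DecidableEq ι] {c : Perm ι} (hc : c.IsThreeCycle)
    {a : ι} (ha : a ∈ c.support) :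
    a ≠ c a ∧ c a ≠ c (c a) ∧ a ≠ c (c a) ∧ c (c (c a)) = a ∧
      c.support = {a, c a, c (c a)} := by
  have h1 : a ≠ c a := (Perm.mem_support.1 ha).symm
  have h3 : c (c (c a)) = a := by
    have : (c ^ 3) a = a := by rw [← hc.orderOf, pow_orderOf_eq_one]; rfl
    simpa [pow_succ] using this
  have h2 : c a ≠ c (c a) := fun h => h1 (c.injective h)
  have h4 : a ≠ c (c a) := fun h => by
    rw [← h] at h3
    exact h1 h3.symm
  refine ⟨h1, h2, h4, h3, (Finset.eq_of_subset_of_card_le ?_ ?_).symm⟩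
  · intro x hx
    simp only [Finset.mem_insert, Finset.mem_singleton] at hx
    rcases hx with rfl | rfl | rfl
    · exact ha
    · exact Perm.apply_mem_support.2 ha
    · exact Perm.apply_mem_support.2 (Perm.apply_mem_support.2 ha)
  · rw [hc.card_support]
    simp [h1, h2, h4]

theorem comm_one_point {ι : Type*} [Fintype ι] [DecidableEq ι] {c d : Perm ι}
    (hc : c.IsThreeCycle) (hd : d.IsThreeCycle) {a : ι} (h : c.support ∩ d.support = {a}) :
    (c * d * c⁻¹ * d⁻¹) ^ 3 = 1 ∧ c * d * c⁻¹ * d⁻¹ ≠ 1 := by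
  have ha : a ∈ c.support ∩ d.support := by rw [h]; simp
  rw [Finset.mem_inter] at ha
  obtain ⟨c1, c2, c3, c4, cs⟩ := support_three hc ha.1
  obtain ⟨d1, d2, d3, d4, ds⟩ := support_three hd ha.2
  have hm : ∀ x, x ∈ c.support → x ∈ d.support → x = a := fun x hx hy => by
    have : x ∈ c.support ∩ d.support := Finset.mem_inter.2 ⟨hx, hy⟩
    rw [h] at this
    exact Finset.mem_singleton.1 this
  have q1 : c a ∉ d.support := fun hx => c1 (hm _ (Perm.apply_mem_support.2 ha.1) hx).symm
  have q2 : c (c a) ∉ d.support := fun hx =>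
    c3 (hm _ (Perm.apply_mem_support.2 (Perm.apply_mem_support.2 ha.1)) hx).symm
  have p1 : d a ∉ c.support := fun hx => d1 (hm _ hx (Perm.apply_mem_support.2 ha.2)).symm
  have p2 : d (d a) ∉ c.support := fun hx =>
    d3 (hm _ hx (Perm.apply_mem_support.2 (Perm.apply_mem_support.2 ha.2))).symm
  set f : Fin 5 → ι := ![a, c a, c (c a), d a, d (d a)] with hf
  have n1 : c a ≠ d a := fun e => q1 (e ▸ Perm.apply_mem_support.2 ha.2)
  have n2 : c a ≠ d (d a) := fun e =>
    q1 (e ▸ Perm.apply_mem_support.2 (Perm.apply_mem_support.2 ha.2))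
  have n3 : c (c a) ≠ d a := fun e => q2 (e ▸ Perm.apply_mem_support.2 ha.2)
  have n4 : c (c a) ≠ d (d a) := fun e =>
    q2 (e ▸ Perm.apply_mem_support.2 (Perm.apply_mem_support.2 ha.2))
  have hfinj : Function.Injective f := by
    rw [← List.nodup_ofFn]
    simp [hf, List.ofFn_succ, c1, c2, c3, d1, d3, d2, n1, n2, n3, n4]
  let e : Fin 5 ↪ ι := ⟨f, hfinj⟩
  let σ : Perm (Fin 5) := swap 0 1 * swap 1 2
  let τ : Perm (Fin 5) := swap 0 3 * swap 3 4
  have hσ : c = Perm.viaEmbeddingHom e σ := by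
    ext x
    rw [Perm.viaEmbeddingHom_apply]
    by_cases hx : x ∈ Set.range e
    · obtain ⟨i, rfl⟩ := hx
      rw [Perm.viaEmbedding_apply]
      fin_cases i
      · rfl
      · rfl
      · exact c4
      · exact Perm.notMem_support.1 p1
      · exact Perm.notMem_support.1 p2
    · rw [Perm.viaEmbedding_apply_of_notMem _ _ _ hx]
      refine Perm.notMem_support.1 fun hs => hx ?_
      rw [cs] at hs
      simp only [Finset.mem_insert, Finset.mem_singleton] at hs
      rcases hs with rfl | rfl | rfl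
      · exact ⟨0, rfl⟩
      · exact ⟨1, rfl⟩
      · exact ⟨2, rfl⟩
  have hτ : d = Perm.viaEmbeddingHom e τ := by
    ext x
    rw [Perm.viaEmbeddingHom_apply]
    by_cases hx : x ∈ Set.range e
    · obtain ⟨i, rfl⟩ := hx
      rw [Perm.viaEmbedding_apply]
      fin_cases i
      · rfl
      · exact Perm.notMem_support.1 q1
      · exact Perm.notMem_support.1 q2
      · rfl
      · exact d4
    · rw [Perm.viaEmbedding_apply_of_notMem _ _ _ hx]
      refine Perm.notMem_support.1 fun hs => hx ?_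
      rw [ds] at hs
      simp only [Finset.mem_insert, Finset.mem_singleton] at hs
      rcases hs with rfl | rfl | rfl
      · exact ⟨0, rfl⟩
      · exact ⟨3, rfl⟩
      · exact ⟨4, rfl⟩
  set_option maxRecDepth 4000 in
  have key : (σ * τ * σ⁻¹ * τ⁻¹) ^ 3 = 1 ∧ σ * τ * σ⁻¹ * τ⁻¹ ≠ 1 := by decide
  rw [hσ, hτ, ← map_inv, ← map_inv, ← map_mul, ← map_mul, ← map_mul, ← map_pow]
  refine ⟨by rw [key.1, map_one], fun hh => key.2 ?_⟩
  exact Perm.viaEmbeddingHom_injective e (by rw [hh, map_one])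

theorem eq_one_of_cube {G : Type*} [Group G] {R : Subgroup G} (hcop : (Nat.card R).Coprime 3)
    {H : Type*} [Group H] (π : G →* H) {r : G} (hr : r ∈ R) (h3 : π r ^ 3 = 1) : π r = 1 := by
  have h1 : π r ^ Nat.card R = 1 := by
    have : (⟨r, hr⟩ : R) ^ Nat.card R = 1 := pow_card_eq_one'
    rw [← map_pow, show r ^ Nat.card R = 1 from congrArg Subtype.val this, map_one]
  have h2 : π r ^ Nat.gcd (Nat.card R) 3 = 1 := pow_gcd_eq_one.mpr ⟨h1, h3⟩
  rwa [hcop, pow_one] at h2

theorem card_le_four {G : Type*} [Group G] {ι : Type*} [Fintype ι] [DecidableEq ι]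
    (π : G →* Perm ι) {R : Subgroup G} {b : G} (hbR : ∀ r ∈ R, b * r * b⁻¹ ∈ R)
    (hcop : (Nat.card R).Coprime 3) (hgen : ∀ g : G, ∃ r ∈ R, ∃ i : ℕ, g = r * b ^ i)
    (h3 : (π b).IsThreeCycle) (htr : ∀ i j : ι, ∃ g, π g i = j) : Fintype.card ι ≤ 4 := by
  set C : G → Perm ι := fun g => π g * π b * (π g)⁻¹ with hC
  have hCsupp : ∀ g, (C g).support = (π b).support.image (π g) := fun g => by
    simp only [hC, Perm.support_conj, Finset.map_eq_image]
    rfl
  have hCthree : ∀ g, (C g).IsThreeCycle := fun g => by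
    rw [← card_support_eq_three_iff, hCsupp, Finset.card_image_of_injective _ (π g).injective,
      h3.card_support]
  have meet : ∀ g, 2 ≤ ((π b).support ∩ (C g).support).card := by
    intro g
    obtain ⟨r, hr, i, rfl⟩ := hgen g
    have hCr : C (r * b ^ i) = π (r * b * r⁻¹) := by
      simp only [hC, map_mul, map_pow, map_inv]
      group
    rw [hCr]
    have hd : (π (r * b * r⁻¹)).IsThreeCycle := hCr ▸ hCthree (r * b ^ i)
    have hbb : b * b * r⁻¹ * (b * b)⁻¹ ∈ R := by
      have := hbR _ (hbR _ (R.inv_mem hr))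
      convert this using 1
      group
    by_contra hlt
    have hcases : ((π b).support ∩ (π (r * b * r⁻¹)).support).card = 0 ∨
        ((π b).support ∩ (π (r * b * r⁻¹)).support).card = 1 := by omega
    rcases hcases with h0 | h1
    · have hdis : Perm.Disjoint (π b) (π (r * b * r⁻¹)) := by
        rw [Perm.disjoint_iff_disjoint_support, Finset.disjoint_iff_inter_eq_empty]
        exact Finset.card_eq_zero.1 h0
      set x := r * b * r⁻¹ * b⁻¹ with hx
      have hxR : x ∈ R := by
        have := R.mul_mem hr (hbR _ (R.inv_mem hr))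
        convert this using 1
        rw [hx]; group
      have hcomm : Commute (π (r * b * r⁻¹)) (π b⁻¹) := by
        rw [map_inv]
        exact hdis.symm.commute.inv_right
      have hx3 : π x ^ 3 = 1 := by
        have e1 : π x = π (r * b * r⁻¹) * π b⁻¹ := by rw [hx, map_mul]
        rw [e1, hcomm.mul_pow]
        have o1 : π (r * b * r⁻¹) ^ 3 = 1 := by rw [← hd.orderOf, pow_orderOf_eq_one]
        have o2 : π b⁻¹ ^ 3 = 1 := by
          rw [map_inv, inv_pow, ← h3.orderOf, pow_orderOf_eq_one, inv_one]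
        rw [o1, o2, mul_one]
      have hx1 := eq_one_of_cube hcop π hxR hx3
      rw [hx, map_mul, map_inv, mul_inv_eq_one] at hx1
      rw [hx1, Finset.inter_self, h3.card_support] at h0
      omega
    · obtain ⟨a, ha⟩ := Finset.card_eq_one.1 h1
      obtain ⟨k1, k2⟩ := comm_one_point h3 hd ha
      set x := b * (r * b * r⁻¹) * b⁻¹ * (r * b * r⁻¹)⁻¹ with hx
      have hxR : x ∈ R := by
        have := R.mul_mem (R.mul_mem (R.mul_mem (hbR r hr) hbb) (hbR r hr)) (R.inv_mem hr)
        convert this using 1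
        rw [hx]; group
      have e1 : π x = π b * π (r * b * r⁻¹) * (π b)⁻¹ * (π (r * b * r⁻¹))⁻¹ := by
        rw [hx]; simp only [map_mul, map_inv]
      exact k2 (e1 ▸ eq_one_of_cube hcop π hxR (e1 ▸ k1))
  refine card_le_four_of_triples (Set.range fun g => (C g).support) ⟨_, ⟨1, rfl⟩⟩ ?_ ?_ ?_ ?_
  · rintro _ ⟨g, rfl⟩
    exact (hCthree g).card_support
  · rintro _ ⟨g, rfl⟩ _ ⟨k, rfl⟩
    have h := meet (g⁻¹ * k)
    have e : (C g).support ∩ (C k).support =
        ((π b).support ∩ (C (g⁻¹ * k)).support).image (π g) := by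
      rw [Finset.image_inter _ _ (π g).injective, hCsupp, hCsupp, hCsupp, Finset.image_image]
      congr 2
      funext z
      simp
    show 2 ≤ ((C g).support ∩ (C k).support).card
    rw [e, Finset.card_image_of_injective _ (π g).injective]
    exact h
  · intro j
    obtain ⟨a, ha⟩ : (π b).support.Nonempty := Finset.card_pos.1 (by rw [h3.card_support]; omega)
    obtain ⟨g, hg⟩ := htr a j
    refine ⟨_, ⟨g, rfl⟩, ?_⟩
    show j ∈ (C g).support
    rw [hCsupp, ← hg]
    exact Finset.mem_image_of_mem _ ha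
  · intro i hi s hs j
    obtain ⟨k, rfl⟩ := hs
    obtain ⟨g, hg⟩ := htr i j
    have := hi _ ⟨g⁻¹ * k, rfl⟩
    simp only [hCsupp] at this ⊢
    obtain ⟨z, hz, hzi⟩ := Finset.mem_image.1 this
    refine Finset.mem_image.2 ⟨z, hz, ?_⟩
    rw [← hg, ← hzi]
    simp

end Cfsg.Agent.Lib.CubicBlock
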