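import Cfsg.Agent.Lib.CubicBlock.Setup
import Cfsg.Agent.Lib.CubicBlock.Perm

/-!
Elementary abelian normal subgroups in the setup: central, or monomial of degree at most four.
-/

set_option autoImplicit false

namespace Cfsg.Agent.Lib.CubicBlock

open Subgroup

universe u v

variable {G : Type u} [Group G] {V : Type v} [AddCommGroup V] [Module (ZMod 3) V]

/-- A maximal subgroup of `A` with fixed points. -/
def IsBlock (ρ : Representation (ZMod 3) G V) (A H : Subgroup G) : Prop :=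
  H ≤ A ∧ H ≠ A ∧ fixSub ρ H ≠ ⊥ ∧ ∀ a ∈ A, a ∉ H → A ≤ H ⊔ zpowers a

/-- A monomial structure relative to `A`. -/
structure Mono (ρ : Representation (ZMod 3) G V) (b : G) (A : Subgroup G) where
  ι : Type u
  [fin : Fintype ι]
  [dec : DecidableEq ι]
  e : Module.Basis ι (ZMod 3) V
  π : G →* Equiv.Perm ι
  three : (π b).IsThreeCycle
  mono : ∀ g i, ∃ c : ZMod 3, ρ g (e i) = c • e (π g i)
  ker : ∀ a ∈ A, π a = 1
  trans : ∀ i j, ∃ g, π g i = j
  card_le : Fintype.card ι ≤ 4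
  sq : ∀ a ∈ A, a * a = 1
  sep : ∀ i j, i ≠ j → ∃ a ∈ A, ρ a (e i) ≠ e i ∧ ρ a (e j) = e j

attribute [instance] Mono.fin Mono.dec

variable {ρ : Representation (ZMod 3) G V} {R : Subgroup G} {b q : G}

theorem mem_fixSub_sup {H K : Subgroup G} {v : V} (h1 : v ∈ fixSub ρ H) (h2 : v ∈ fixSub ρ K) :
    v ∈ fixSub ρ (H ⊔ K) := by
  let M : Subgroup G := {
    carrier := {g | ρ g v = v}
    one_mem' := by simp
    mul_mem' := fun {x y} (hx : ρ x v = v) (hy : ρ y v = v) => show ρ (x * y) v = v by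
      rw [rho_mul, hy, hx]
    inv_mem' := fun {x} (hx : ρ x v = v) => show ρ x⁻¹ v = v by
      conv_lhs => rw [← hx]
      rw [rho_inv] }
  exact fun g hg => (sup_le (fun x hx => h1 x hx) (fun x hx => h2 x hx) : H ⊔ K ≤ M) hg

theorem mem_fixSub_zpowers {a : G} {v : V} (h : ρ a v = v) : v ∈ fixSub ρ (zpowers a) := by
  let M : Subgroup G := {
    carrier := {g | ρ g v = v}
    one_mem' := by simp
    mul_mem' := fun {x y} (hx : ρ x v = v) (hy : ρ y v = v) => show ρ (x * y) v = v by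
      rw [rho_mul, hy, hx]
    inv_mem' := fun {x} (hx : ρ x v = v) => show ρ x⁻¹ v = v by
      conv_lhs => rw [← hx]
      rw [rho_inv] }
  exact fun g hg => (zpowers_le.2 (show a ∈ M from h)) hg

namespace Setup

variable (S : Setup ρ R b q) [Finite G] [Finite V]
include S

variable {A : Subgroup G} [A.Normal] (hAR : A ≤ R) (hAne : A ≠ ⊥)
  (hAc : ∀ x ∈ A, ∀ y ∈ A, x * y = y * x) {r : ℕ} (hr : r.Prime) (hAr : ∀ x ∈ A, x ^ r = 1)

include hAR hAne hAc hr hAr in
theorem exists_isBlock : ∃ H, IsBlock ρ A H := by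
  obtain ⟨w, hw0, -⟩ := S.exists_Y
  have hP : (⊥ : Subgroup G) ≤ A ∧ fixSub ρ (⊥ : Subgroup G) ≠ ⊥ := ⟨bot_le, fun h => hw0 (by
    have : w ∈ fixSub ρ (⊥ : Subgroup G) := fun g hg => by
      rw [mem_bot.1 hg, map_one]; rfl
    rwa [h, Submodule.mem_bot] at this)⟩
  obtain ⟨K, -, hK⟩ := Finite.exists_le_maximal
    (p := fun H : Subgroup G => H ≤ A ∧ fixSub ρ H ≠ ⊥) hP
  refine ⟨K, hK.1.1, fun h => hK.1.2 (h ▸ S.fix_eq_bot hAne), hK.1.2, fun a ha haK c hc => ?_⟩
  -- some `a ^ i * c` lies in `K`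
  by_contra hcK
  obtain ⟨v, hv, hv0⟩ := Submodule.exists_mem_ne_zero_of_ne_bot hK.1.2
  have fpf : ∀ x ∈ A, x ∉ K → ∀ y ∈ fixSub ρ K, ρ x y = y → y = 0 := by
    intro x hx hxK y hy hxy
    by_contra hy0
    have h := hK.2 (y := K ⊔ zpowers x) ⟨sup_le hK.1.1 (zpowers_le.2 hx), fun hb => hy0 (by
      have := mem_fixSub_sup hy (mem_fixSub_zpowers hxy)
      rwa [hb, Submodule.mem_bot] at this)⟩ le_sup_left
    exact hxK (h (mem_sup_right (mem_zpowers x)))
  have geom : ∀ x ∈ A, x ∉ K → ∀ y ∈ fixSub ρ K,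
      ∑ i ∈ Finset.range r, ρ (x ^ i) y = 0 := by
    intro x hx hxK y hy
    refine fpf x hx hxK _ ?_ ?_
    · intro k hk
      rw [map_sum]
      refine Finset.sum_congr rfl fun i _ => ?_
      rw [← rho_mul, hAc k (hK.1.1 hk) _ (pow_mem hx i), rho_mul, hy k hk]
    · rw [map_sum]
      simp only [← rho_mul, ← pow_succ']
      have h1 := Finset.sum_range_succ (fun i => ρ (x ^ i) y) r
      have h2 := Finset.sum_range_succ' (fun i => ρ (x ^ i) y) r
      rw [hAr x hx] at h1
      rw [pow_zero] at h2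
      rw [h1] at h2
      exact (add_right_cancel h2).symm
  have hnot : ∀ i : ℕ, a ^ i * c ∉ K := fun i hi => hcK (by
    have := (K ⊔ zpowers a).mul_mem (mem_sup_right (inv_mem (npow_mem_zpowers a i)))
      (mem_sup_left hi)
    rwa [inv_mul_cancel_left] at this)
  have hsum : ∑ j ∈ Finset.range r, ∑ i ∈ Finset.range r, ρ ((a ^ i * c) ^ j) v = 0 := by
    rw [Finset.sum_comm]
    exact Finset.sum_eq_zero fun i _ =>
      geom _ (A.mul_mem (pow_mem ha i) hc) (hnot i) v hv
  rw [Finset.sum_eq_single 0] at hsum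
  · simp only [pow_zero, map_one, Module.End.one_apply, Finset.sum_const, Finset.card_range] at hsum
    have h3 : ¬ (3 ∣ r) := fun h => by
      have e3 : r = 3 := ((Nat.prime_dvd_prime_iff_eq Nat.prime_three hr).1 h).symm
      have : Fact r.Prime := ⟨hr⟩
      have ho : orderOf a = r := orderOf_eq_prime (hAr a ha) fun h1 => haK (h1 ▸ K.one_mem)
      have hd : r ∣ Nat.card R := ho ▸ Subgroup.orderOf_dvd_natCard R (hAR ha)
      rw [e3] at hd
      have := Nat.dvd_gcd hd (dvd_refl 3)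
      rw [S.cop] at this
      norm_num at this
    rw [← Nat.cast_smul_eq_nsmul (ZMod 3), smul_eq_zero] at hsum
    rcases hsum with h | h
    · exact h3 ((ZMod.natCast_eq_zero_iff _ _).1 h)
    · exact hv0 h
  · intro j hj hj0
    have hjr : a ^ j ∉ K := fun h => haK (by
      have hco : Nat.Coprime j r := ((hr.coprime_iff_not_dvd).2 fun hd => by
        have := Nat.le_of_dvd (Nat.pos_of_ne_zero hj0) hd
        have := Finset.mem_range.1 hj
        omega).symm
      have ho : orderOf a ∣ r := orderOf_dvd_of_pow_eq_one (hAr a ha)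
      obtain ⟨m, hm⟩ := exists_pow_eq_self_of_coprime (Nat.Coprime.coprime_dvd_right ho hco)
      exact hm ▸ pow_mem h m)
    have he : ∀ i, ρ ((a ^ i * c) ^ j) v = ρ (c ^ j) (ρ ((a ^ j) ^ i) v) := fun i => by
      rw [(show Commute (a ^ i) c from hAc _ (pow_mem ha i) c hc).mul_pow, ← pow_mul,
        ← rho_mul, ← pow_mul, hAc _ (pow_mem hc j) _ (pow_mem ha _), mul_comm j i]
    simp only [he]
    rw [← map_sum, geom _ (pow_mem ha j) hjr v hv, map_zero]
  · exact fun h => absurd (Finset.mem_range.2 hr.pos) h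

omit hAR hAne hAc hr hAr in
theorem isBlock_map {H : Subgroup G} (h : IsBlock ρ A H) (g : G) :
    IsBlock ρ A (H.map (MulAut.conj g).toMonoidHom) := by
  have hA : A.map (MulAut.conj g).toMonoidHom = A := by
    ext x
    constructor
    · rintro ⟨y, hy, rfl⟩
      exact Normal.conj_mem ‹A.Normal› y hy g
    · exact fun hx => ⟨g⁻¹ * x * g, by simpa using Normal.conj_mem ‹A.Normal› x hx g⁻¹,
        by simp [mul_assoc]⟩
  refine ⟨hA ▸ Subgroup.map_mono h.1, fun he => h.2.1 ?_, fun hb => ?_, fun a ha hna => ?_⟩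
  · refine Subgroup.map_injective (f := (MulAut.conj g).toMonoidHom) (MulAut.conj g).injective ?_
    rw [he, hA]
  · obtain ⟨v, hv, hv0⟩ := Submodule.exists_mem_ne_zero_of_ne_bot h.2.2.1
    have := fixSub_map ρ H g hv
    rw [hb, Submodule.mem_bot] at this
    exact hv0 (by rw [← rho_inv (ρ := ρ) g v, this, map_zero])
  · have ha' : g⁻¹ * a * g ∈ A := by simpa using Normal.conj_mem ‹A.Normal› a ha g⁻¹
    have h4 := Subgroup.map_mono (f := (MulAut.conj g).toMonoidHom)
      (h.2.2.2 _ ha' fun hh => hna ⟨_, hh, by simp [mul_assoc]⟩)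
    rw [hA, Subgroup.map_sup, MonoidHom.map_zpowers] at h4
    simpa [mul_assoc] using h4

end Setup

theorem conj_map_map (H : Subgroup G) (g h : G) :
    (H.map (MulAut.conj h).toMonoidHom).map (MulAut.conj g).toMonoidHom =
      H.map (MulAut.conj (g * h)).toMonoidHom := by
  rw [Subgroup.map_map]
  congr 1
  ext x
  simp [mul_assoc]

namespace Setup

variable (S : Setup ρ R b q) [Finite G] [Finite V]
include S

variable {A : Subgroup G} [A.Normal]

omit [Finite G] [Finite V] in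
theorem conj_one (H : Subgroup G) : H.map (MulAut.conj (1 : G)).toMonoidHom = H := by
  ext x; simp

/-- An elementary abelian normal subgroup in `R` is central or gives a monomial structure. -/
theorem central_or_mono (hAR : A ≤ R) (hAc : ∀ x ∈ A, ∀ y ∈ A, x * y = y * x) {r : ℕ}
    (hr : r.Prime) (hAr : ∀ x ∈ A, x ^ r = 1) :
    A ≤ center G ∨ Nonempty (Mono ρ b A) := by
  classical
  by_cases hAne : A = ⊥
  · exact Or.inl (hAne ▸ bot_le)
  obtain ⟨H₀, hH₀⟩ := S.exists_isBlock hAR hAne hAc hr hAr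
  let ι := {H : Subgroup G // IsBlock ρ A H}
  haveI : Fintype ι := Fintype.ofFinite ι
  let f : G → ι → ι := fun g H => ⟨H.1.map (MulAut.conj g).toMonoidHom, isBlock_map S H.2 g⟩
  have fmul : ∀ g h H, f (g * h) H = f g (f h H) := fun g h H =>
    Subtype.ext (conj_map_map H.1 g h).symm
  have fone : ∀ H, f 1 H = H := fun H => Subtype.ext (conj_one S H.1)
  let π : G →* Equiv.Perm ι := MonoidHom.mk'
    (fun g => ⟨f g, f g⁻¹, fun H => by rw [← fmul, inv_mul_cancel, fone],
      fun H => by rw [← fmul, mul_inv_cancel, fone]⟩) fun g h => Equiv.ext fun H => fmul g h H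
  have hπ : ∀ g H, (π g H).1 = H.1.map (MulAut.conj g).toMonoidHom := fun _ _ => rfl
  have hfix : ∀ g (H : ι) (v : V), v ∈ fixSub ρ H.1 → ρ g v ∈ fixSub ρ (π g H).1 :=
    fun g H v hv => fixSub_map ρ H.1 g hv
  have hker : ∀ a ∈ A, π a = 1 := by
    intro a ha
    refine Equiv.ext fun H => Subtype.ext ?_
    rw [hπ]
    ext x
    constructor
    · rintro ⟨y, hy, rfl⟩
      show a * y * a⁻¹ ∈ H.1
      rwa [hAc a ha y (H.2.1 hy), mul_inv_cancel_right]
    · intro hx
      refine ⟨x, hx, ?_⟩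
      show a * x * a⁻¹ = x
      rw [hAc a ha x (H.2.1 hx), mul_inv_cancel_right]
  -- projections
  let p : ι → Module.End (ZMod 3) V := fun H =>
    letI := Fintype.ofFinite H.1
    (Nat.card H.1 : ZMod 3)⁻¹ • ∑ h : H.1, ρ (h : G)
  have hcard : ∀ H : ι, (Nat.card H.1 : ZMod 3) ≠ 0 := fun H h => by
    have h1 := (ZMod.natCast_eq_zero_iff _ _).1 h
    have h2 : (3 : ℕ) ∣ Nat.gcd (Nat.card R) 3 := Nat.dvd_gcd
      (h1.trans (Subgroup.card_dvd_of_le (H.2.1.trans hAR))) (dvd_refl 3)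
    rw [S.cop] at h2
    norm_num at h2
  have pfix : ∀ (H : ι), ∀ v ∈ fixSub ρ H.1, p H v = v := by
    intro H v hv
    letI := Fintype.ofFinite H.1
    show ((Nat.card H.1 : ZMod 3)⁻¹ • ∑ h : H.1, ρ (h : G)) v = v
    rw [LinearMap.smul_apply, LinearMap.sum_apply, Finset.sum_congr rfl fun (h : H.1) _ => hv (h : G) h.2,
      Finset.sum_const, Finset.card_univ, ← Nat.card_eq_fintype_card,
      ← Nat.cast_smul_eq_nsmul (ZMod 3), smul_smul, inv_mul_cancel₀ (hcard H), one_smul]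
  have notle : ∀ (H H' : ι), H ≠ H' → ∃ a ∈ H'.1, a ∉ H.1 := by
    intro H H' hne
    by_contra hle
    push_neg at hle
    obtain ⟨c, hc, hc'⟩ : ∃ c ∈ H.1, c ∉ H'.1 := by
      by_contra hle'
      push_neg at hle'
      exact hne (Subtype.ext (le_antisymm hle' hle))
    exact H.2.2.1 (le_antisymm H.2.1 ((H'.2.2.2.2 c (H.2.1 hc) hc').trans
      (sup_le hle (zpowers_le.2 hc))))
  have pkill : ∀ (H H' : ι), H ≠ H' → ∀ v ∈ fixSub ρ H'.1, p H v = 0 := by
    intro H H' hne v hv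
    letI := Fintype.ofFinite H.1
    have h1 : p H v ∈ fixSub ρ H.1 := by
      intro k hk
      show ρ k (((Nat.card H.1 : ZMod 3)⁻¹ • ∑ h : H.1, ρ (h : G)) v) =
        ((Nat.card H.1 : ZMod 3)⁻¹ • ∑ h : H.1, ρ (h : G)) v
      rw [LinearMap.smul_apply, LinearMap.sum_apply, map_smul, map_sum]
      congr 1
      refine Fintype.sum_equiv (Equiv.mulLeft ⟨k, hk⟩) _ _ fun x => ?_
      rw [← rho_mul]
      rfl
    have h2 : p H v ∈ fixSub ρ H'.1 := by
      intro k hk
      show ρ k (((Nat.card H.1 : ZMod 3)⁻¹ • ∑ h : H.1, ρ (h : G)) v) =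
        ((Nat.card H.1 : ZMod 3)⁻¹ • ∑ h : H.1, ρ (h : G)) v
      rw [LinearMap.smul_apply, LinearMap.sum_apply, map_smul, map_sum]
      congr 1
      refine Finset.sum_congr rfl fun x _ => ?_
      rw [← rho_mul, hAc k (H'.2.1 hk) x (H.2.1 x.2), rho_mul, hv k hk]
    obtain ⟨a, ha, haH⟩ := notle H H' hne
    have h3 : p H v ∈ fixSub ρ A := fun g hg =>
      mem_fixSub_sup h1 (mem_fixSub_zpowers (h2 a ha)) g (H.2.2.2.2 a (H'.2.1 ha) haH hg)
    rwa [S.fix_eq_bot hAne, Submodule.mem_bot] at h3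
  by_cases hmv : ∀ H, π b H = H
  · left
    have hb1 : π b = 1 := Equiv.ext hmv
    have hR1 : R ≤ π.ker := S.comm _ fun x _ => by
      rw [MonoidHom.mem_ker, map_mul, map_mul, map_mul, hb1, map_inv, map_inv, hb1]
      group
    have hall : ∀ g, π g = 1 := fun g => by
      obtain ⟨x, hx, i, rfl⟩ := S.gen g
      rw [map_mul, map_pow, hb1, MonoidHom.mem_ker.1 (hR1 hx), one_pow, one_mul]
    haveI : H₀.Normal := ⟨fun x hx g => by
      have : (π g ⟨H₀, hH₀⟩).1 = H₀ := by rw [hall g]; rfl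
      rw [hπ] at this
      exact this.le ⟨x, hx, rfl⟩⟩
    have hbot : H₀ = ⊥ := by
      by_contra h
      exact hH₀.2.2.1 (S.fix_eq_bot h)
    obtain ⟨a, ha, ha1⟩ := A.bot_or_exists_ne_one.resolve_left hAne
    have hAa : A = zpowers a := by
      refine le_antisymm ?_ (zpowers_le.2 ha)
      have := hH₀.2.2.2 a ha (by rw [hbot, mem_bot]; exact ha1)
      rwa [hbot, bot_sup_eq] at this
    have hRc := S.le_centralizer_of_cyclic hAa
    rcases hr.eq_two_or_odd' with h2 | hodd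
    · intro x hx
      refine mem_center_iff.2 fun g => ?_
      by_cases hx1 : x = 1
      · rw [hx1, mul_one, one_mul]
      have two : ∀ y ∈ A, y ≠ 1 → y = a := fun y hy hy1 => by
        obtain ⟨k, rfl⟩ := mem_zpowers_iff.1 (hAa ▸ hy : y ∈ zpowers a)
        rcases Int.even_or_odd k with ⟨m, hm⟩ | ⟨m, hm⟩
        · refine absurd ?_ hy1
          rw [hm, ← two_mul, zpow_mul, zpow_two, ← pow_two, ← h2, hAr a ha, one_zpow]
        · rw [hm, zpow_add, zpow_mul, zpow_two, ← pow_two, ← h2, hAr a ha, one_zpow, one_mul,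
            zpow_one]
      have h5 := two _ (Normal.conj_mem ‹A.Normal› x hx g) fun h => hx1 (conj_eq_one_iff.1 h)
      rw [← two x hx hx1] at h5
      exact mul_inv_eq_iff_eq_mul.1 h5
    · refine absurd (S.eq_bot_of_odd (fun y hy => ⟨r, hodd, hAr y hy⟩) fun y hy => ?_) hAne
      exact mem_centralizer_iff.1 (hRc S.q_mem) y hy
  right
  push_neg at hmv
  obtain ⟨H₁, hH₁⟩ := hmv
  have p2 : ∀ H, π b H ≠ H → π b (π b H) ≠ H := fun H h e => h (by
    have h3 : π b (π b (π b H)) = H := by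
      rw [← Equiv.Perm.mul_apply, ← Equiv.Perm.mul_apply, ← map_mul, ← map_mul, ← pow_three',
        S.cube, map_one]
      rfl
    rw [e] at h3
    exact h3)
  have bw : ∀ H v, v ∈ fixSub ρ H.1 → ρ b v ∈ fixSub ρ (π b H).1 := fun H v hv => hfix b H v hv
  obtain ⟨w₁, hw₁, hw₁0⟩ := Submodule.exists_mem_ne_zero_of_ne_bot H₁.2.2.2.1
  -- moved blocks are lines
  have line₁ : ∀ v ∈ fixSub ρ H₁.1, ∃ c : ZMod 3, v = c • w₁ := by
    intro v hv
    by_contra hc
    push_neg at hc
    refine S.key (p H₁) (pkill _ _ (Ne.symm hH₁) _ (bw _ _ hw₁))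
      (pkill _ _ (Ne.symm (p2 _ hH₁)) _ (bw _ _ (bw _ _ hw₁)))
      (pkill _ _ (Ne.symm hH₁) _ (bw _ _ hv))
      (pkill _ _ (Ne.symm (p2 _ hH₁)) _ (bw _ _ (bw _ _ hv))) ?_
    rw [pfix _ _ hw₁, pfix _ _ hv, LinearIndependent.pair_iff]
    intro s t hst
    rcases zmod_three_cases t with rfl | rfl | rfl
    · refine ⟨?_, rfl⟩
      rw [zero_smul, add_zero] at hst
      exact (smul_eq_zero.1 hst).resolve_right hw₁0
    · exfalso
      rw [one_smul] at hst
      exact hc (-s) (by rw [neg_smul]; exact eq_neg_of_add_eq_zero_right hst)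
    · exfalso
      rw [neg_one_smul, ← sub_eq_add_neg, sub_eq_zero] at hst
      exact hc s hst.symm
  -- one orbit is moved
  have orb : ∀ H, π b H ≠ H → H = H₁ ∨ H = π b H₁ ∨ H = π b (π b H₁) := by
    intro H hH
    by_contra hno
    push_neg at hno
    obtain ⟨n1, n2, n3⟩ := hno
    obtain ⟨v, hv, hv0⟩ := Submodule.exists_mem_ne_zero_of_ne_bot H.2.2.2.1
    have h3 : ∀ K, π b (π b (π b K)) = K := fun K => by
      rw [← Equiv.Perm.mul_apply, ← Equiv.Perm.mul_apply, ← map_mul, ← map_mul, ← pow_three',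
        S.cube, map_one]
      rfl
    have m1 : π b H ≠ H₁ := fun e => n3 (by rw [← e, h3])
    have m2 : π b (π b H) ≠ H₁ := fun e => n2 (by rw [← e, h3])
    refine S.key (p H₁ + p H) (w := w₁) (w' := v) ?_ ?_ ?_ ?_ ?_
    · rw [LinearMap.add_apply, pkill _ _ (Ne.symm hH₁) _ (bw _ _ hw₁),
        pkill _ _ n2 _ (bw _ _ hw₁), add_zero]
    · rw [LinearMap.add_apply, pkill _ _ (Ne.symm (p2 _ hH₁)) _ (bw _ _ (bw _ _ hw₁)),
        pkill _ _ n3 _ (bw _ _ (bw _ _ hw₁)), add_zero]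
    · rw [LinearMap.add_apply, pkill _ _ m1.symm _ (bw _ _ hv),
        pkill _ _ (Ne.symm hH) _ (bw _ _ hv), add_zero]
    · rw [LinearMap.add_apply, pkill _ _ m2.symm _ (bw _ _ (bw _ _ hv)),
        pkill _ _ (Ne.symm (p2 _ hH)) _ (bw _ _ (bw _ _ hv)), add_zero]
    · rw [LinearMap.add_apply, LinearMap.add_apply, pfix _ _ hw₁, pfix _ _ hv,
        pkill _ _ n1 _ hw₁, pkill _ _ (Ne.symm n1) _ hv, add_zero, zero_add,
        LinearIndependent.pair_iff]
      intro s t hst
      have e1 := congrArg (p H₁) hst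
      rw [map_add, map_smul, map_smul, pfix _ _ hw₁, pkill _ _ (Ne.symm n1) _ hv, smul_zero,
        add_zero, map_zero] at e1
      have e2 := (smul_eq_zero.1 e1).resolve_right hw₁0
      rw [e2, zero_smul, zero_add] at hst
      exact ⟨e2, (smul_eq_zero.1 hst).resolve_right hv0⟩
  have hthree : (π b).IsThreeCycle := by
    rw [← card_support_eq_three_iff]
    have h3 : ∀ K, π b (π b (π b K)) = K := fun K => by
      rw [← Equiv.Perm.mul_apply, ← Equiv.Perm.mul_apply, ← map_mul, ← map_mul, ← pow_three',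
        S.cube, map_one]
      rfl
    have e : (π b).support = {H₁, π b H₁, π b (π b H₁)} := by
      ext H
      rw [Equiv.Perm.mem_support]
      simp only [Finset.mem_insert, Finset.mem_singleton]
      constructor
      · exact orb H
      · rintro (rfl | rfl | rfl)
        · exact hH₁
        · exact fun e => hH₁ ((π b).injective e)
        · exact fun e => hH₁ ((π b).injective ((π b).injective e))
    have a1 : H₁ ≠ π b H₁ := Ne.symm hH₁
    have a2 : H₁ ≠ π b (π b H₁) := Ne.symm (p2 _ hH₁)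
    have a3 : π b H₁ ≠ π b (π b H₁) := fun e => a1 ((π b).injective e)
    rw [e]
    simp [a1, a2, a3]
  have htr₁ : ∀ H, ∃ g, π g H₁ = H := by
    intro H
    by_contra hno
    push_neg at hno
    obtain ⟨v, hv, hv0⟩ := Submodule.exists_mem_ne_zero_of_ne_bot H.2.2.2.1
    set N := Submodule.span (ZMod 3) (Set.range fun g => ρ g w₁) with hN
    have hinv : ∀ g, ∀ x ∈ N, ρ g x ∈ N := fun g x hx => by
      refine (Submodule.span_le (p := N.comap (ρ g))).2 ?_ hx
      rintro _ ⟨k, rfl⟩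
      exact Submodule.subset_span ⟨g * k, rho_mul g k w₁⟩
    have htop := (S.irr N hinv).resolve_left fun h => hw₁0 (by
      have : w₁ ∈ N := Submodule.subset_span ⟨1, by simp⟩
      rwa [h, Submodule.mem_bot] at this)
    have hk : N ≤ LinearMap.ker (p H) := Submodule.span_le.2 (by
      rintro _ ⟨g, rfl⟩
      exact pkill _ _ (Ne.symm (hno g)) _ (hfix g H₁ w₁ hw₁))
    have := hk (htop ▸ Submodule.mem_top : v ∈ N)
    rw [LinearMap.mem_ker, pfix _ _ hv] at this
    exact hv0 this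
  have htr : ∀ H K, ∃ g, π g H = K := fun H K => by
    obtain ⟨g, hg⟩ := htr₁ H
    obtain ⟨k, hk⟩ := htr₁ K
    refine ⟨k * g⁻¹, ?_⟩
    rw [map_mul, Equiv.Perm.mul_apply, map_inv,
      show (π g)⁻¹ H = H₁ from Equiv.Perm.inv_eq_iff_eq.2 hg.symm, hk]
  haveI := S.normal
  have hcard4 : Fintype.card ι ≤ 4 :=
    card_le_four π (fun x hx => Normal.conj_mem (inferInstance) x hx b) S.cop S.gen hthree htr
  choose gg hgg using htr₁
  let w : ι → V := fun H => ρ (gg H) w₁
  have hwmem : ∀ H, w H ∈ fixSub ρ H.1 := fun H => by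
    have := hfix (gg H) H₁ w₁ hw₁
    rwa [hgg] at this
  have hw0 : ∀ H, w H ≠ 0 := fun H h => hw₁0 (by rw [← rho_inv (ρ := ρ) (gg H) w₁]; simp [w] at h; rw [h, map_zero])
  have hline : ∀ H, ∀ v ∈ fixSub ρ H.1, ∃ c : ZMod 3, v = c • w H := by
    intro H v hv
    have h1 := hfix (gg H)⁻¹ H v hv
    rw [map_inv, show (π (gg H))⁻¹ H = H₁ from Equiv.Perm.inv_eq_iff_eq.2 (hgg H).symm] at h1
    obtain ⟨c, hc⟩ := line₁ _ h1
    refine ⟨c, ?_⟩
    rw [← rho_inv' (ρ := ρ) (gg H) v, hc, map_smul]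
  have hli : LinearIndependent (ZMod 3) w := by
    rw [Fintype.linearIndependent_iff]
    intro c hc H
    have h1 := congrArg (p H) hc
    rw [map_sum, map_zero, Finset.sum_eq_single H] at h1
    · rw [map_smul, pfix _ _ (hwmem H), smul_eq_zero] at h1
      exact h1.resolve_right (hw0 H)
    · exact fun K _ hK => by rw [map_smul, pkill _ _ (Ne.symm hK) _ (hwmem K), smul_zero]
    · exact fun h => absurd (Finset.mem_univ H) h
  have hspan : ⊤ ≤ Submodule.span (ZMod 3) (Set.range w) := by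
    set N := Submodule.span (ZMod 3) (Set.range w) with hN
    have hinv : ∀ g, ∀ x ∈ N, ρ g x ∈ N := fun g x hx => by
      refine (Submodule.span_le (p := N.comap (ρ g))).2 ?_ hx
      rintro _ ⟨H, rfl⟩
      show ρ g (w H) ∈ N
      obtain ⟨c, hc⟩ := hline _ _ (hfix g H _ (hwmem H))
      rw [hc]
      exact N.smul_mem c (Submodule.subset_span ⟨_, rfl⟩)
    refine ((S.irr N hinv).resolve_left fun h => hw0 H₁ ?_).ge
    have : w H₁ ∈ N := Submodule.subset_span ⟨_, rfl⟩
    rwa [h, Submodule.mem_bot] at this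
  refine ⟨{
    ι := ι
    e := Module.Basis.mk hli hspan
    π := π
    three := hthree
    mono := fun g H => by
      simp only [Module.Basis.mk_apply]
      exact hline _ _ (hfix g H _ (hwmem H))
    ker := hker
    trans := htr
    card_le := hcard4
    sq := ?_
    sep := fun H K hne => by
      obtain ⟨a, ha, haH⟩ := notle H K hne
      simp only [Module.Basis.mk_apply]
      refine ⟨a, K.2.1 ha, fun h => hw0 H ?_, hwmem K a ha⟩
      have : w H ∈ fixSub ρ A := fun g hg => mem_fixSub_sup (hwmem H) (mem_fixSub_zpowers h) g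
        (H.2.2.2.2 a (K.2.1 ha) haH hg)
      rwa [S.fix_eq_bot hAne, Submodule.mem_bot] at this }⟩
  obtain ⟨a, ha, ha'⟩ : ∃ a ∈ A, a ∉ H₁.1 := by
    by_contra h
    push_neg at h
    exact H₁.2.2.1 (le_antisymm H₁.2.1 h)
  rcases hr.eq_two_or_odd' with h2 | hodd
  · intro x hx
    rw [← pow_two, ← h2, hAr x hx]
  exfalso
  have h1 := hfix a H₁ w₁ hw₁
  rw [hker a ha] at h1
  obtain ⟨c, hc⟩ := line₁ _ h1
  have hp : ∀ i : ℕ, ρ (a ^ i) w₁ = c ^ i • w₁ := by
    intro i
    induction i with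
    | zero => simp
    | succ i ih => rw [pow_succ', rho_mul, ih, map_smul, hc, smul_smul, pow_succ]
  have hh := hp r
  rw [hAr a ha, map_one] at hh
  have hc1 : c = 1 := by
    rcases zmod_three_cases c with rfl | rfl | rfl
    · rw [zero_pow hr.ne_zero, zero_smul] at hh
      exact absurd hh hw₁0
    · rfl
    · exfalso
      rw [hodd.neg_one_pow, neg_one_smul] at hh
      have hh' : w₁ + w₁ = 0 := eq_neg_iff_add_eq_zero.1 hh
      have := four_smul w₁
      rw [hh', zero_add, hh'] at this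
      exact hw₁0 this.symm
  rw [hc1, one_smul] at hc
  have : w₁ ∈ fixSub ρ A := fun g hg =>
    mem_fixSub_sup hw₁ (mem_fixSub_zpowers hc) g (H₁.2.2.2.2 a ha ha' hg)
  rw [S.fix_eq_bot hAne, Submodule.mem_bot] at this
  exact hw₁0 this

end Setup

end Cfsg.Agent.Lib.CubicBlock
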