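import Cfsg.Prelude.Def_Solvable
import Cfsg.Prelude.Def_Local
import Cfsg.Agent.Lib.CubicBlock.Mono
import Cfsg.Agent.Lib.PSolvable.HallHigman
import Cfsg.Agent.Lib.PSolvable.PSolv
import Cfsg.Agent.Lib.Coprime.Aut

/-!
The normal subgroup `R` of the setup is a 2-group and carries a monomial structure.
-/

set_option autoImplicit false

namespace Cfsg.Agent.Lib.CubicBlock

open Subgroup Cfsg

universe u v

variable {G : Type u} [Group G] [Finite G] {V : Type v} [AddCommGroup V] [Module (ZMod 3) V]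
  [Finite V] {ρ : Representation (ZMod 3) G V} {R : Subgroup G} {b q : G}

/-- `1` or `-1`. -/
def IsZ (ρ : Representation (ZMod 3) G V) (x : G) : Prop := x = 1 ∨ ρ x = -1

namespace Setup

variable (S : Setup ρ R b q)
include S

theorem isZ_comm {x : G} (h : IsZ ρ x) (g : G) : x * g = g * x := by
  rcases h with rfl | h
  · simp
  · exact S.inj (by rw [map_mul, map_mul, h, neg_one_mul, mul_neg_one])

theorem isZ_sq {x : G} (h : IsZ ρ x) : x * x = 1 := by
  rcases h with rfl | h
  · simp
  · exact S.inj (by rw [map_mul, h, map_one, neg_mul_neg, one_mul])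

/-- No monomial structure in `R`. -/
def NoMono (ρ : Representation (ZMod 3) G V) (R : Subgroup G) (b : G) : Prop :=
  ∀ A : Subgroup G, A.Normal → A ≤ R → IsEmpty (Mono ρ b A)

theorem isZ_of_abelian (hno : NoMono ρ R b) {A : Subgroup G} [A.Normal] (hAR : A ≤ R)
    (hAc : ∀ x ∈ A, ∀ y ∈ A, x * y = y * x) : ∀ a ∈ A, IsZ ρ a := by
  have tors : ∀ r : ℕ, r.Prime → ∀ a ∈ A, a ^ r = 1 → IsZ ρ a := by
    intro r hr a ha har
    let T : Subgroup G := {
      carrier := {x | x ∈ A ∧ x ^ r = 1}
      one_mem' := ⟨A.one_mem, one_pow r⟩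
      mul_mem' := fun {x y} (hx : x ∈ A ∧ x ^ r = 1) (hy : y ∈ A ∧ y ^ r = 1) =>
        ⟨A.mul_mem hx.1 hy.1, by
          rw [(show Commute x y from hAc x hx.1 y hy.1).mul_pow, hx.2, hy.2, one_mul]⟩
      inv_mem' := fun {x} (hx : x ∈ A ∧ x ^ r = 1) =>
        ⟨A.inv_mem hx.1, by rw [inv_pow, hx.2, inv_one]⟩ }
    haveI : T.Normal := ⟨fun x (hx : x ∈ A ∧ x ^ r = 1) g =>
      ⟨Normal.conj_mem ‹A.Normal› x hx.1 g, by rw [conj_pow, hx.2, mul_one, mul_inv_cancel]⟩⟩
    have hTR : T ≤ R := fun x hx => hAR hx.1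
    rcases S.central_or_mono hTR (fun x hx y hy => hAc x hx.1 y hy.1) hr (fun x hx => hx.2) with
      hc | hm
    · exact S.central_cases fun g => (mem_center_iff.1 (hc (show a ∈ T from ⟨ha, har⟩)) g).symm
    · exact absurd hm (not_nonempty_iff.2 (hno T inferInstance hTR))
  have hb : ∀ n, ∀ a ∈ A, orderOf a = n → b * a = a * b := by
    intro n
    induction n using Nat.strong_induction_on with
    | _ n ih =>
      intro a ha hn
      by_cases h1 : a = 1
      · simp [h1]
      have hpos : 0 < orderOf a := orderOf_pos a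
      have hne : orderOf a ≠ 1 := fun h => h1 (orderOf_eq_one_iff.1 h)
      set r := (orderOf a).minFac with hr
      have hrp : r.Prime := Nat.minFac_prime hne
      have hdvd : r ∣ orderOf a := Nat.minFac_dvd _
      have hx := tors r hrp (a ^ (orderOf a / r)) (pow_mem ha _) (by
        rw [← pow_mul, Nat.div_mul_cancel hdvd, pow_orderOf_eq_one])
      have h2 : r = 2 := by
        have hsq := S.isZ_sq hx
        rw [← pow_two, ← pow_mul] at hsq
        have hd := orderOf_dvd_of_pow_eq_one hsq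
        conv_lhs at hd => rw [← Nat.div_mul_cancel hdvd]
        have hk : 0 < orderOf a / r := Nat.div_pos (Nat.le_of_dvd hpos hdvd) hrp.pos
        exact (Nat.prime_dvd_prime_iff_eq hrp Nat.prime_two).1
          (Nat.dvd_of_mul_dvd_mul_left hk hd)
      have hlt : orderOf (a ^ 2) < n := by
        rw [orderOf_pow' a two_ne_zero, Nat.gcd_eq_right (h2 ▸ hdvd), ← hn]
        omega
      have ih2 := ih _ hlt (a ^ 2) (pow_mem ha 2) rfl
      set c := b * a * b⁻¹ * a⁻¹ with hc
      have hcA : c ∈ A := A.mul_mem (Normal.conj_mem ‹A.Normal› a ha b) (A.inv_mem ha)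
      have hc2 : c ^ 2 = 1 := by
        rw [hc, (show Commute (b * a * b⁻¹) a⁻¹ from hAc _ (Normal.conj_mem ‹A.Normal› a ha b) _
          (A.inv_mem ha)).mul_pow, conj_pow, ih2, inv_pow]
        group
      have hcz := tors 2 Nat.prime_two c hcA hc2
      have hbc := S.isZ_comm hcz
      have e1 : b * a * b⁻¹ = c * a := by rw [hc]; group
      have e3 : c * c * c * a = a := by
        calc c * c * c * a = c * (c * (c * a)) := by group
          _ = c * (c * (b * a * b⁻¹)) := by rw [e1]
          _ = c * (b * (c * a) * b⁻¹) := by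
            congr 1
            rw [← mul_assoc b c a, ← hbc b]; group
          _ = c * (b * (b * a * b⁻¹) * b⁻¹) := by rw [e1]
          _ = b * (b * (c * a) * b⁻¹) * b⁻¹ := by
            rw [← mul_assoc b c a, ← hbc b, show b * (c * b * a * b⁻¹) * b⁻¹ =
              b * c * (b * a * b⁻¹) * b⁻¹ by group, ← hbc b]
            group
          _ = b * (b * (b * a * b⁻¹) * b⁻¹) * b⁻¹ := by rw [e1]
          _ = (b * b * b) * a * (b * b * b)⁻¹ := by group
          _ = a := by rw [← pow_three', S.cube]; group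
      have hc3 : c = 1 := by
        have h4 := mul_eq_right.1 e3
        rwa [show c * c = 1 from S.isZ_sq hcz, one_mul] at h4
      rw [hc3, one_mul] at e1
      exact mul_inv_eq_iff_eq_mul.1 e1
  have hRc := S.le_centralizer_of_commute fun a ha => hb _ a ha rfl
  intro a ha
  refine S.central_cases fun g => ?_
  obtain ⟨x, hx, i, rfl⟩ := S.gen g
  have c1 : a * x = x * a := mem_centralizer_iff.1 (hRc hx) a ha
  have c2 : a * b ^ i = b ^ i * a :=
    ((show Commute b a from hb _ a ha rfl).pow_left i).eq.symm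
  rw [← mul_assoc, c1, mul_assoc, c2, mul_assoc]

theorem two_group_class (hno : NoMono ρ R b) {U : Subgroup G} [U.Normal] (hUR : U ≤ R)
    (hU : IsPGroup 2 U) :
    (∀ x ∈ U, ∀ y ∈ U, IsZ ρ (x * y * x⁻¹ * y⁻¹)) ∧ ∀ x ∈ U, IsZ ρ (x * x) := by
  have : Fact (Nat.Prime 2) := ⟨Nat.prime_two⟩
  have hLn : ∀ k, (U.lowerCentralSeries k).Normal ∧ U.lowerCentralSeries k ≤ U := by
    intro k
    induction k with
    | zero => exact ⟨by rw [Subgroup.lowerCentralSeries_zero]; infer_instance, le_rfl⟩
    | succ k ih =>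
      haveI := ih.1
      rw [Subgroup.lowerCentralSeries_succ]
      exact ⟨inferInstance, (commutator_le_right _ _)⟩
  have hcomm : ∀ x ∈ U, ∀ y ∈ U, IsZ ρ (x * y * x⁻¹ * y⁻¹) := by
    obtain ⟨n, hn⟩ := (isNilpotent_iff_lowerCentralSeries U).mp hU.isNilpotent
    classical
    have hex : ∃ m, ∀ x ∈ U.lowerCentralSeries (m + 1), IsZ ρ x := ⟨n, fun x hx => by
      have := U.lowerCentralSeries_antitone (Nat.le_succ n) hx
      rw [hn, mem_bot] at this
      exact Or.inl this⟩
    have hm := Nat.find_spec hex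
    rcases Nat.eq_zero_or_pos (Nat.find hex) with h0 | hpos
    · intro x hx y hy
      rw [h0, zero_add, Subgroup.lowerCentralSeries_succ, Subgroup.lowerCentralSeries_zero] at hm
      exact hm _ (by rw [← commutatorElement_def]; exact commutator_mem_commutator hx hy)
    exfalso
    obtain ⟨k, hk⟩ : ∃ k, Nat.find hex = k + 1 := ⟨_, (Nat.succ_pred_eq_of_pos hpos).symm⟩
    rw [hk] at hm
    refine Nat.find_min hex (show k < Nat.find hex by omega) ?_
    haveI := (hLn (k + 1)).1
    refine S.isZ_of_abelian hno ((hLn (k + 1)).2.trans hUR) fun x hx y hy => ?_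
    have hxc : ∀ v ∈ U, IsZ ρ (x * v * x⁻¹ * v⁻¹) := fun v hv => hm _ (by
      rw [Subgroup.lowerCentralSeries_succ, ← commutatorElement_def]
      exact commutator_mem_commutator hx hv)
    have hN : U.lowerCentralSeries 1 ≤ centralizer {x} := by
      rw [Subgroup.lowerCentralSeries_succ, Subgroup.lowerCentralSeries_zero, commutator_le]
      intro v hv w hw
      rw [mem_centralizer_singleton_iff, commutatorElement_def]
      have ec := S.isZ_comm (hxc v hv)
      have ed := S.isZ_comm (hxc w hw)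
      set c := x * v * x⁻¹ * v⁻¹ with hc
      set d := x * w * x⁻¹ * w⁻¹ with hd
      have e1 : x * (v * w * v⁻¹ * w⁻¹) * x⁻¹ = v * w * v⁻¹ * w⁻¹ := by
        calc x * (v * w * v⁻¹ * w⁻¹) * x⁻¹
            = (c * v) * (d * w) * (c * v)⁻¹ * (d * w)⁻¹ := by rw [hc, hd]; group
          _ = c * (v * d) * w * (v⁻¹ * c⁻¹) * (w⁻¹ * d⁻¹) := by group
          _ = c * (d * v) * w * (c⁻¹ * v⁻¹) * (d⁻¹ * w⁻¹) := by
            rw [ed v, show v⁻¹ * c⁻¹ = c⁻¹ * v⁻¹ by
              rw [← mul_inv_rev, ← mul_inv_rev, ec v], show w⁻¹ * d⁻¹ = d⁻¹ * w⁻¹ by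
              rw [← mul_inv_rev, ← mul_inv_rev, ed w]]
          _ = c * ((d * v) * w) * c⁻¹ * (v⁻¹ * d⁻¹) * w⁻¹ := by group
          _ = c * ((d * v) * w) * c⁻¹ * (d⁻¹ * v⁻¹) * w⁻¹ := by
            rw [show v⁻¹ * d⁻¹ = d⁻¹ * v⁻¹ by rw [← mul_inv_rev, ← mul_inv_rev, ed v]]
          _ = ((d * v) * w) * (d⁻¹ * v⁻¹) * w⁻¹ := by rw [ec]; group
          _ = d * ((v * w) * d⁻¹) * v⁻¹ * w⁻¹ := by group
          _ = d * (d⁻¹ * (v * w)) * v⁻¹ * w⁻¹ := by
            rw [show (v * w) * d⁻¹ = d⁻¹ * (v * w) from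
              ((show Commute d (v * w) from ed _).inv_left).eq.symm]
          _ = _ := by group
      exact (mul_inv_eq_iff_eq_mul.1 e1).symm
    exact (mem_centralizer_singleton_iff.1
      (hN (U.lowerCentralSeries_antitone (Nat.le_add_left 1 k) hy))).symm
  refine ⟨hcomm, ?_⟩
  let C : Subgroup G := U ⊓ centralizer (U : Set G)
  have hCz : ∀ x ∈ C, IsZ ρ x := by
    haveI : C.Normal := inferInstance
    exact S.isZ_of_abelian hno (inf_le_left.trans hUR) fun x hx y hy =>
      (mem_centralizer_iff.1 hx.2 y hy.1).symm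
  intro x hx
  refine hCz _ ⟨U.mul_mem hx hx, mem_centralizer_iff.2 fun y hy => ?_⟩
  have ec := S.isZ_comm (hcomm x hx y hy)
  set c := x * y * x⁻¹ * y⁻¹ with hc
  have e1 : x * y = c * y * x := by rw [hc]; group
  calc y * (x * x) = (c * c) * y * (x * x) := by rw [S.isZ_sq (hcomm x hx y hy), one_mul]
    _ = c * (c * y * x) * x := by group
    _ = c * (x * y) * x := by rw [e1]
    _ = x * (c * y * x) := by rw [← mul_assoc c x y, ec x]; group
    _ = x * (x * y) := by rw [e1]
    _ = x * x * y := by group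

/-- A 2-group gives a monomial structure. -/
theorem exists_mono (hR : IsPGroup 2 R) : ∃ A : Subgroup G, A ≤ R ∧ Nonempty (Mono ρ b A) := by
  by_contra hne
  push_neg at hne
  have hno : NoMono ρ R b := fun A _ hA => hne A hA
  haveI := S.normal
  obtain ⟨hc, -⟩ := S.two_group_class hno le_rfl hR
  set q1 := b * q * b⁻¹ with hq1
  have hq1R : q1 ∈ R := Normal.conj_mem S.normal q S.q_mem b
  let Z : Subgroup G := R ⊓ center G
  set K := closure ({q, q1} ∪ (Z : Set G)) with hK
  have hKR : K ≤ R := (closure_le _).2 (by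
    rintro x ((rfl | rfl) | hx)
    · exact S.q_mem
    · exact hq1R
    · exact hx.1)
  have zmem : ∀ x, x ∈ R → IsZ ρ x → x ∈ Z := fun x hx hz =>
    ⟨hx, mem_center_iff.2 fun g => (S.isZ_comm hz g).symm⟩
  have mR : ∀ x ∈ R, ∀ y ∈ R, y ∈ K → x * y * x⁻¹ ∈ K := by
    intro x hx y hy hyK
    have h1 : x * y * x⁻¹ * y⁻¹ ∈ K := subset_closure (Or.inr (zmem _
      (R.mul_mem (R.mul_mem (R.mul_mem hx hy) (R.inv_mem hx)) (R.inv_mem hy)) (hc x hx y hy)))
    simpa using K.mul_mem h1 hyK
  have mb : ∀ y ∈ K, b * y * b⁻¹ ∈ K := by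
    intro y hy
    have : K ≤ K.comap (MulAut.conj b).toMonoidHom := (closure_le _).2 (by
      rintro x ((rfl | rfl) | hx)
      · exact subset_closure (Or.inl (Or.inr rfl))
      · show b * (b * q * b⁻¹) * b⁻¹ ∈ K
        rw [S.b2_q]
        exact K.mul_mem (subset_closure (Or.inl (Or.inl rfl)))
          (subset_closure (Or.inl (Or.inr rfl)))
      · show b * x * b⁻¹ ∈ K
        rw [mem_center_iff.1 hx.2 b, mul_inv_cancel_right]
        exact subset_closure (Or.inr hx))
    exact this hy
  haveI : K.Normal := ⟨fun y hy g => by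
    obtain ⟨x, hx, i, rfl⟩ := S.gen g
    have hi : ∀ i : ℕ, b ^ i * y * (b ^ i)⁻¹ ∈ K := by
      intro i
      induction i with
      | zero => simpa using hy
      | succ i ih =>
        have := mb _ ih
        rwa [show b * (b ^ i * y * (b ^ i)⁻¹) * b⁻¹ = b ^ (i + 1) * y * (b ^ (i + 1))⁻¹ by
          rw [pow_succ']; group] at this
    rw [show x * b ^ i * y * (x * b ^ i)⁻¹ = x * (b ^ i * y * (b ^ i)⁻¹) * x⁻¹ by group]
    exact mR x hx _ (hKR (hi i)) (hi i)⟩
  have hKc : ∀ x ∈ K, ∀ y ∈ K, x * y = y * x := by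
    have hgen : ∀ x ∈ ({q, q1} ∪ (Z : Set G)), ∀ y ∈ ({q, q1} ∪ (Z : Set G)), x * y = y * x := by
      rintro x ((rfl | rfl) | hx) y ((rfl | rfl) | hy)
      all_goals first
        | rfl
        | exact S.q_comm
        | exact S.q_comm.symm
        | exact (mem_center_iff.1 hx.2 _).symm
        | exact mem_center_iff.1 hy.2 _
    have h1 : K ≤ centralizer (({q, q1} ∪ (Z : Set G))) := (closure_le _).2 fun x hx =>
      mem_centralizer_iff.2 fun y hy => hgen y hy x hx
    have h2 : K ≤ centralizer (K : Set G) := by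
      rw [hK, centralizer_closure]
      exact h1
    exact fun x hx y hy => (mem_centralizer_iff.1 (h2 hx) y hy).symm
  have hz := S.isZ_of_abelian hno hKR hKc q (subset_closure (Or.inl (Or.inl rfl)))
  exact S.q_ne (by rw [← S.isZ_comm hz b, mul_inv_cancel_right])

omit [Finite G] in
theorem rho_sub_one_le (u : G) :
    LinearMap.range (ρ (b * u * b⁻¹ * u⁻¹) - 1) ≤
      LinearMap.range (ρ b - 1) ⊔ (LinearMap.range (ρ b - 1)).map (ρ u) := by
  rintro _ ⟨v, rfl⟩
  set x := ρ (u * b⁻¹ * u⁻¹) v
  set y := ρ u⁻¹ v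
  have e : (ρ (b * u * b⁻¹ * u⁻¹) - 1) v =
      (ρ b - 1) x + ρ u ((ρ b - 1) (-ρ b⁻¹ y)) := by
    simp only [LinearMap.sub_apply, Module.End.one_apply, map_neg, map_sub, x, y]
    rw [show ρ (b * u * b⁻¹ * u⁻¹) v = ρ b (ρ (u * b⁻¹ * u⁻¹) v) by
      rw [← rho_mul]; simp only [mul_assoc]]
    simp only [rho_mul, rho_inv']
    abel
  rw [e]
  exact Submodule.add_mem_sup ⟨x, rfl⟩ ⟨_, ⟨_, rfl⟩, rfl⟩

theorem finrank_le_four [Group.IsSolvable G] : Module.finrank (ZMod 3) V ≤ 4 := by
  haveI : Module.Finite (ZMod 3) V := Module.Finite.of_finite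
  by_cases hM : ∃ A : Subgroup G, A ≤ R ∧ Nonempty (Mono ρ b A)
  · obtain ⟨A, -, ⟨M⟩⟩ := hM
    rw [Module.finrank_eq_card_basis M.e]
    exact M.card_le
  push_neg at hM
  have hno : NoMono ρ R b := fun A _ hA => hM A hA
  haveI := S.normal
  have : Fact (Nat.Prime 2) := ⟨Nat.prime_two⟩
  have hinv : ∀ k, ∀ N : Subgroup G, Nat.card N = k → N.Normal → N ≤ R → N ≠ ⊥ →
      ∃ x ∈ N, x ≠ 1 ∧ x * x = 1 := by
    intro k
    induction k using Nat.strong_induction_on with
    | _ k ih =>
      intro N hk hN hNR hne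
      haveI := hN
      by_cases hab : ⁅N, N⁆ = ⊥
      · obtain ⟨x, hx, hx1⟩ := N.bot_or_exists_ne_one.resolve_left hne
        refine ⟨x, hx, hx1, S.isZ_sq (S.isZ_of_abelian hno hNR (fun a ha c hc => ?_) x hx)⟩
        exact (commutatorElement_eq_one_iff_mul_comm).1
          (mem_bot.1 (hab ▸ commutator_mem_commutator ha hc))
      · have hlt := Group.IsSolvable.commutator_lt_of_ne_bot hne
        obtain ⟨x, hx, h2⟩ := ih _ (hk ▸ Set.Finite.card_lt_card (Set.toFinite _) hlt) _ rfl
          inferInstance (hlt.le.trans hNR) hab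
        exact ⟨x, hlt.le hx, h2⟩
  have h0 : pPrimeCore 2 R = ⊥ := by
    by_contra hne
    set W := (pPrimeCore 2 R).map R.subtype with hW
    haveI : W.Normal := PSolvable.map_subtype_pPrimeCore_normal R
    obtain ⟨x, hx, hx1, hxx⟩ := hinv _ W rfl inferInstance (map_subtype_le _) (by
      rw [hW, Ne, map_eq_bot_iff_of_injective _ R.subtype_injective]; exact hne)
    have ho : orderOf x = 2 := orderOf_eq_prime (by rw [pow_two, hxx]) hx1
    have hd : 2 ∣ Nat.card W := ho ▸ Subgroup.orderOf_dvd_natCard W hx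
    rw [card_map_of_injective R.subtype_injective] at hd
    exact PSolvable.pPrimeCore_not_dvd hd
  set U := (pCore 2 R).map R.subtype with hUdef
  haveI : U.Normal := PSolvable.map_subtype_pCore_normal R
  have hUR : U ≤ R := map_subtype_le _
  have hU2 : IsPGroup 2 U := PSolvable.pCore_isPGroup.map _
  have hCU : ∀ x ∈ R, (∀ u ∈ U, u * x = x * u) → x ∈ U := by
    intro x hx h
    have := PSolvable.centralizer_pCore_le_of_isPSolvable
      (PSolvable.isPSolvable_of_isSolvable (G := R) (p := 2)) h0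
      (show (⟨x, hx⟩ : R) ∈ centralizer (pCore 2 R : Set R) from mem_centralizer_iff.2 fun u hu =>
        Subtype.ext (h u ⟨u, hu, rfl⟩))
    exact ⟨⟨x, hx⟩, this, rfl⟩
  obtain ⟨hc, hs⟩ := S.two_group_class hno hUR hU2
  have hnc : ¬ ∀ u ∈ U, b * u = u * b := by
    intro h
    have hR := S.le_centralizer_of_commute h
    have hRU : R ≤ U := fun x hx => hCU x hx fun u hu => mem_centralizer_iff.1 (hR hx) u hu
    have : R ≤ ⊥ := S.comm ⊥ fun x hx => by
      rw [mem_bot, h x (hRU hx)]; group
    exact S.q_ne_one (mem_bot.1 (this S.q_mem))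
  set w : G → G := fun u => b * u * b⁻¹ * u⁻¹ with hw
  have hwU : ∀ u ∈ U, w u ∈ U := fun u hu =>
    U.mul_mem (Normal.conj_mem ‹U.Normal› u hu b) (U.inv_mem hu)
  obtain ⟨u, hu, hu2⟩ : ∃ u ∈ U, w u * w u ≠ 1 := by
    by_contra hall
    push_neg at hall
    let f : G → G → G := fun x y => x * y * x⁻¹ * y⁻¹
    have fz : ∀ x ∈ U, ∀ y ∈ U, IsZ ρ (f x y) := hc
    have fmul : ∀ x ∈ U, ∀ y ∈ U, ∀ t ∈ U, f x (y * t) = f x y * f x t := by
      intro x hx y hy t ht
      calc f x (y * t) = f x y * (y * f x t * y⁻¹) := by simp only [f]; group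
        _ = f x y * f x t := by rw [← S.isZ_comm (fz x hx t ht) y, mul_inv_cancel_right]
    have fmul' : ∀ x ∈ U, ∀ y ∈ U, ∀ t ∈ U, f (x * y) t = f x t * f y t := by
      intro x hx y hy t ht
      calc f (x * y) t = (x * f y t * x⁻¹) * f x t := by simp only [f]; group
        _ = f y t * f x t := by rw [← S.isZ_comm (fz y hy t ht) x, mul_inv_cancel_right]
        _ = f x t * f y t := S.isZ_comm (fz y hy t ht) _
    have finv : ∀ x ∈ U, ∀ t ∈ U, f x⁻¹ t = (f x t)⁻¹ := by
      intro x hx t ht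
      refine eq_inv_of_mul_eq_one_left ?_
      rw [← fmul' _ (U.inv_mem hx) _ hx _ ht]
      simp [f]
    have fb : ∀ x ∈ U, ∀ y ∈ U, f (b * x * b⁻¹) (b * y * b⁻¹) = f x y := by
      intro x hx y hy
      calc f (b * x * b⁻¹) (b * y * b⁻¹) = b * f x y * b⁻¹ := by simp only [f]; group
        _ = f x y := by rw [← S.isZ_comm (fz x hx y hy) b, mul_inv_cancel_right]
    have wcomm : ∀ x ∈ U, ∀ y ∈ U, f (w x) (w y) = 1 := by
      intro x hx y hy
      have h3 := hall _ (U.mul_mem hx hy)
      have e : w (x * y) = w x * (x * w y * x⁻¹) := by simp only [w]; group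
      have e' : x * w y * x⁻¹ = f x (w y) * w y := by simp only [f]; group
      have hcz := fz x hx _ (hwU y hy)
      set c := f x (w y) with hcdef
      rw [e, e'] at h3
      have h4 : w x * (c * w y) * (w x * (c * w y)) = c * c * (w x * w y * (w x * w y)) := by
        have k1 := S.isZ_comm hcz (w x)
        have k2 := S.isZ_comm hcz (w x * w y * w x)
        calc w x * (c * w y) * (w x * (c * w y))
            = (w x * c) * w y * w x * (c * w y) := by group
          _ = (c * w x) * w y * w x * (c * w y) := by rw [k1]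
          _ = c * ((w x * w y * w x) * c) * w y := by group
          _ = c * (c * (w x * w y * w x)) * w y := by rw [k2]
          _ = _ := by group
      rw [h4, S.isZ_sq hcz, one_mul] at h3
      have a1 : (w x)⁻¹ = w x := inv_eq_of_mul_eq_one_right (hall x hx)
      have a2 : (w y)⁻¹ = w y := inv_eq_of_mul_eq_one_right (hall y hy)
      show w x * w y * (w x)⁻¹ * (w y)⁻¹ = 1
      rw [a1, a2, mul_assoc (w x * w y)]
      exact h3
    have wcen : ∀ x ∈ U, ∀ v ∈ U, f (w x) v = 1 := by
      intro x hx v hv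
      have hbv := Normal.conj_mem ‹U.Normal› v hv b
      have hbbv := Normal.conj_mem ‹U.Normal› _ hbv b
      set t := v * (b * v * b⁻¹) * (b * (b * v * b⁻¹) * b⁻¹) with ht
      have htU : t ∈ U := U.mul_mem (U.mul_mem hv hbv) hbbv
      have hbx := Normal.conj_mem ‹U.Normal› x hx b
      have step : ∀ y ∈ U, f (w x) (b * y * b⁻¹) = f (w x) y := by
        intro y hy
        rw [show b * y * b⁻¹ = w y * y by simp only [w]; group,
          fmul _ (hwU x hx) _ (hwU y hy) _ hy, wcomm x hx y hy, one_mul]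
      have h1 : f (w x) t = f (w x) v := by
        rw [ht, fmul _ (hwU x hx) _ (U.mul_mem hv hbv) _ hbbv, fmul _ (hwU x hx) _ hv _ hbv,
          step _ hbv, step _ hv, S.isZ_sq (fz _ (hwU x hx) _ hv), one_mul]
      have h2 : f (w x) t = 1 := by
        have et : f (b * x * b⁻¹) (b * t * b⁻¹) = f (b * x * b⁻¹) t := by
          have e : b * t * b⁻¹ = (b * v * b⁻¹) * (b * (b * v * b⁻¹) * b⁻¹) * v := by
            rw [ht]
            calc b * (v * (b * v * b⁻¹) * (b * (b * v * b⁻¹) * b⁻¹)) * b⁻¹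
                = (b * v * b⁻¹) * (b * (b * v * b⁻¹) * b⁻¹) * ((b * b * b) * v * (b * b * b)⁻¹) := by
                  group
              _ = _ := by rw [← pow_three', S.cube]; group
          rw [e, ht, fmul _ hbx _ (U.mul_mem hbv hbbv) _ hv, fmul _ hbx _ hbv _ hbbv,
            fmul _ hbx _ (U.mul_mem hv hbv) _ hbbv, fmul _ hbx _ hv _ hbv]
          have k := S.isZ_comm (fz _ hbx _ hv)
          exact (k _).symm.trans (mul_assoc _ _ _).symm
        show f (b * x * b⁻¹ * x⁻¹) t = 1
        rw [fmul' _ hbx _ (U.inv_mem hx) _ htU, finv _ hx _ htU, ← et, fb x hx t htU,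
          mul_inv_cancel]
      rw [← h1, h2]
    apply hnc
    intro x hx
    have hCn : (U ⊓ centralizer (U : Set G)).Normal := inferInstance
    have hz := S.isZ_of_abelian hno (A := U ⊓ centralizer (U : Set G)) (inf_le_left.trans hUR)
      (fun a ha c hc => (mem_centralizer_iff.1 ha.2 c hc.1).symm) (w x) ⟨hwU x hx,
        mem_centralizer_iff.2 fun y hy => (mul_inv_eq_one.1 (show w x * y * (w x)⁻¹ * y⁻¹ = 1 from
          wcen x hx y hy) |> fun e => (mul_inv_eq_iff_eq_mul.1 e).symm)⟩
    have hcm := S.isZ_comm hz b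
    have e1 : b * x * b⁻¹ = w x * x := by simp only [w]; group
    have e3 : w x * w x * w x * x = x := by
      calc w x * w x * w x * x = w x * (w x * (w x * x)) := by group
        _ = w x * (w x * (b * x * b⁻¹)) := by rw [e1]
        _ = w x * (b * (w x * x) * b⁻¹) := by
          congr 1
          rw [← mul_assoc b (w x) x, ← hcm]; group
        _ = w x * (b * (b * x * b⁻¹) * b⁻¹) := by rw [e1]
        _ = b * (b * (w x * x) * b⁻¹) * b⁻¹ := by
          rw [← mul_assoc b (w x) x, ← hcm, show b * (w x * b * x * b⁻¹) * b⁻¹ =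
            b * w x * (b * x * b⁻¹) * b⁻¹ by group, ← hcm]
          group
        _ = b * (b * (b * x * b⁻¹) * b⁻¹) * b⁻¹ := by rw [e1]
        _ = (b * b * b) * x * (b * b * b)⁻¹ := by group
        _ = x := by rw [← pow_three', S.cube]; group
    have hw1 : w x = 1 := by
      have h4 := mul_eq_right.1 e3
      rwa [S.isZ_sq hz, one_mul] at h4
    rw [hw1, one_mul] at e1
    exact mul_inv_eq_iff_eq_mul.1 e1
  have hneg : ρ (w u * w u) = -1 := (hs _ (hwU u hu)).resolve_left hu2
  have hinj : Function.Injective (ρ (w u) - 1 : Module.End (ZMod 3) V) := by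
    rw [← LinearMap.ker_eq_bot, eq_bot_iff]
    intro v hv
    rw [LinearMap.mem_ker, LinearMap.sub_apply, sub_eq_zero] at hv
    have h2 : ρ (w u * w u) v = v := by rw [rho_mul, hv]; exact hv
    rw [hneg] at h2
    have h3 : v + v = 0 := by
      have : -v = v := h2
      exact (eq_neg_iff_add_eq_zero.1 this.symm)
    have := four_smul v
    rw [h3, zero_add, h3] at this
    exact (Submodule.mem_bot _).2 this.symm
  have hsurj := LinearMap.range_eq_top.2 (LinearMap.injective_iff_surjective.1 hinj)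
  have h5 := Submodule.finrank_mono (hsurj.ge.trans (S.rho_sub_one_le u))
  rw [finrank_top] at h5
  calc Module.finrank (ZMod 3) V ≤ _ := h5
    _ ≤ _ := Submodule.finrank_add_le_finrank_add_finrank _ _
    _ ≤ 4 := by
      have h6 := Submodule.finrank_map_le (ρ u) (LinearMap.range (ρ b - 1))
      have := S.rank
      omega

/-- An element of order five commuting with `b` is trivial. -/
theorem five_eq_one (h4 : Module.finrank (ZMod 3) V ≤ 4) (hb : b ≠ 1) {x : G}
    (hx5 : x ^ 5 = 1) (hxb : x * b = b * x) : x = 1 := by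
  haveI : Module.Finite (ZMod 3) V := Module.Finite.of_finite
  set β := ρ b - 1 with hβ
  have hrk : 1 ≤ Module.finrank (ZMod 3) (LinearMap.range β) := by
    by_contra h
    push_neg at h
    have h0 : LinearMap.range β = ⊥ := Submodule.finrank_eq_zero.1 (by omega)
    exact hb (S.inj (by
      rw [map_one]
      exact sub_eq_zero.1 (LinearMap.range_eq_bot.1 h0)))
  have hrn := LinearMap.finrank_range_add_finrank_ker β
  have small : ∀ N : Submodule (ZMod 3) V, Module.finrank (ZMod 3) N ≤ 3 →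
      (∀ v ∈ N, ρ x v ∈ N) → ∀ v ∈ N, ρ x v = v := by
    intro N hN hinvN v hv
    haveI : Fact (Nat.Prime 5) := ⟨by norm_num⟩
    have hP : IsPGroup 5 (zpowers x) := by
      rw [IsPGroup.iff_card]
      rcases (Nat.dvd_prime (by norm_num : Nat.Prime 5)).1 (orderOf_dvd_of_pow_eq_one hx5) with
        h | h
      · exact ⟨0, by rw [Nat.card_zpowers, h, pow_zero]⟩
      · exact ⟨1, by rw [Nat.card_zpowers, h, pow_one]⟩
    let M : Subgroup G := {
      carrier := {g | ∀ v ∈ N, ρ g v ∈ N}
      one_mem' := fun v hv => by rw [map_one]; exact hv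
      mul_mem' := fun {a c} (ha : ∀ v ∈ N, ρ a v ∈ N) (hc : ∀ v ∈ N, ρ c v ∈ N) v hv => by
        rw [rho_mul]; exact ha _ (hc _ hv)
      inv_mem' := fun {a} (ha : ∀ v ∈ N, ρ a v ∈ N) v hv => by
        have hb' : Function.Injective (fun y : N => (⟨ρ a y, ha y y.2⟩ : N)) := fun y z h =>
          Subtype.ext (by
            have := congrArg (fun t : N => ρ a⁻¹ (t : V)) h
            simpa [rho_inv] using this)
        obtain ⟨y, hy⟩ := Finite.injective_iff_surjective.1 hb' ⟨v, hv⟩
        have hy' : ρ a (y : V) = v := congrArg Subtype.val hy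
        rw [← hy', rho_inv]
        exact y.2 }
    have hle : zpowers x ≤ M := zpowers_le.2 hinvN
    letI : MulAction (zpowers x) N := {
      smul := fun g y => ⟨ρ (g : G) y, hle g.2 y y.2⟩
      one_smul := fun y => Subtype.ext (by show ρ ((1 : zpowers x) : G) y = y; simp)
      mul_smul := fun g h y => Subtype.ext (rho_mul (ρ := ρ) (g : G) (h : G) (y : V)) }
    have hmod := hP.card_modEq_card_fixedPoints (α := N)
    let F : Submodule (ZMod 3) V := N ⊓ fixSub ρ (zpowers x)
    have e : MulAction.fixedPoints (zpowers x) N ≃ F := {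
      toFun := fun y => ⟨(y.1 : V), y.1.2, fun g hg => congrArg Subtype.val (y.2 ⟨g, hg⟩)⟩
      invFun := fun y => ⟨⟨(y : V), y.2.1⟩, fun g => Subtype.ext (y.2.2 (g : G) g.2)⟩
      left_inv := fun _ => rfl
      right_inv := fun _ => rfl }
    rw [Nat.card_congr e, Module.natCard_eq_pow_finrank (K := ZMod 3) (V := N),
      Module.natCard_eq_pow_finrank (K := ZMod 3) (V := F), Nat.card_zmod] at hmod
    have hFN : F ≤ N := inf_le_left
    have hd := Submodule.finrank_mono hFN
    have heq : F = N := by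
      refine Submodule.eq_of_le_of_finrank_eq hFN ?_
      generalize Module.finrank (ZMod 3) N = d at *
      generalize Module.finrank (ZMod 3) F = j at *
      unfold Nat.ModEq at hmod
      interval_cases d <;> interval_cases j <;> omega
    exact (heq ▸ hv : v ∈ F).2 x (mem_zpowers x)
  have hcomm : ∀ v, ρ x (β v) = β (ρ x v) := fun v => by
    simp only [hβ, LinearMap.sub_apply, Module.End.one_apply, map_sub, ← rho_mul, hxb]
  have hrange : ∀ v ∈ LinearMap.range β, ρ x v = v := small _ (by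
    have h : Module.finrank (ZMod 3) (LinearMap.range β) ≤ 2 := S.rank
    omega) (by rintro _ ⟨v, rfl⟩; exact ⟨ρ x v, (hcomm v).symm⟩)
  have hker : ∀ v ∈ LinearMap.ker β, ρ x v = v := small _ (by omega) (fun v hv => by
    rw [LinearMap.mem_ker] at hv ⊢
    rw [← hcomm, hv, map_zero])
  refine S.inj (LinearMap.ext fun v => ?_)
  rw [map_one, Module.End.one_apply]
  set d := ρ x v - v with hd
  have hdk : ρ x d = d := hker d (by
    rw [LinearMap.mem_ker, hd, map_sub, ← hcomm, hrange _ ⟨v, rfl⟩, sub_self])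
  have hp : ∀ i : ℕ, ρ (x ^ i) v = v + i • d := by
    intro i
    induction i with
    | zero => simp
    | succ i ih =>
      rw [pow_succ', rho_mul, ih, map_add, map_nsmul, hdk, succ_nsmul, hd]
      abel
  have h5 := hp 5
  rw [hx5, map_one, Module.End.one_apply, left_eq_add, ← Nat.cast_smul_eq_nsmul (ZMod 3),
    smul_eq_zero] at h5
  exact sub_eq_zero.1 (h5.resolve_left (by decide))

theorem card_dvd (h4 : Module.finrank (ZMod 3) V ≤ 4) : Nat.card R ∣ 2 ^ 9 * 5 * 13 := by
  haveI : Module.Finite (ZMod 3) V := Module.Finite.of_finite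
  obtain ⟨n, hn⟩ : ∃ n, Module.finrank (ZMod 3) V = n := ⟨_, rfl⟩
  rw [hn] at h4
  let e := Module.finBasisOfFinrankEq (ZMod 3) V hn
  let φ : Module.End (ZMod 3) V →* Matrix (Fin n) (Fin n) (ZMod 3) :=
    (LinearMap.toMatrixAlgEquiv e).toRingEquiv.toMonoidHom
  let ψ : G →* GL (Fin n) (ZMod 3) := (φ.comp ρ).toHomUnits
  have hψ : Function.Injective ψ := fun x y h => S.inj
    ((LinearMap.toMatrixAlgEquiv e).injective (congrArg Units.val h))
  have hdG : Nat.card G ∣ Nat.card (GL (Fin n) (ZMod 3)) :=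
    Subgroup.card_dvd_of_injective ψ hψ
  have hd : Nat.card R ∣ 3 ^ 6 * (2 ^ 9 * 5 * 13) := by
    refine (Subgroup.card_subgroup_dvd_card R).trans (hdG.trans ?_)
    rw [Matrix.card_GL_field, ZMod.card]
    interval_cases n <;> norm_num [Fin.prod_univ_succ]
  exact (Nat.Coprime.pow_right 6 S.cop).dvd_of_dvd_mul_left hd

theorem isPGroup_two [Group.IsSolvable G] : IsPGroup 2 R := by
  have h4 := S.finrank_le_four
  have hb : b ≠ 1 := fun h => S.q_ne (by rw [h]; group)
  haveI := S.normal
  haveI : Fact (Nat.Prime 5) := ⟨by norm_num⟩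
  haveI : Fact (Nat.Prime 13) := ⟨by norm_num⟩
  haveI : Fact (Nat.Prime 2) := ⟨Nat.prime_two⟩
  have hdvd := S.card_dvd h4
  have h5 : ¬ 5 ∣ Nat.card R := by
    intro h5
    letI : MulDistribMulAction (zpowers b) R :=
      MulDistribMulAction.compHom R ((MulAut.conjNormal (H := R)).comp (zpowers b).subtype)
    have ho : Nat.card (zpowers b) = 3 := by
      rw [Nat.card_zpowers]
      exact orderOf_eq_prime S.cube hb
    have hcop : (Nat.card (zpowers b)).Coprime (Nat.card R) := by
      rw [ho]; exact S.cop.symm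
    obtain ⟨P, hP⟩ := Coprime.exists_smul_invariant_sylow (A := zpowers b) (G := R) hcop
      (Or.inr inferInstance) 5
    have hPc : Nat.card P = 5 := by
      have hcard := P.card_eq_multiplicity
      have hf : (Nat.card R).factorization 5 = 1 := by
        have hle : (Nat.card R).factorization 5 ≤ 1 := by
          by_contra hlt
          push_neg at hlt
          have : 5 ^ 2 ∣ 2 ^ 9 * 5 * 13 := ((Nat.pow_dvd_pow 5 hlt).trans
            (Nat.ordProj_dvd _ _)).trans hdvd
          norm_num at this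
        have := (Nat.Prime.dvd_iff_one_le_factorization (by norm_num) Nat.card_pos.ne').1 h5
        omega
      rw [hcard, hf, pow_one]
    obtain ⟨x, hx, hx1⟩ := (P : Subgroup R).bot_or_exists_ne_one.resolve_left fun h => by
      rw [h, card_bot] at hPc; omega
    have hord : orderOf x = 5 := by
      rcases (Nat.dvd_prime (by norm_num : Nat.Prime 5)).1
        (hPc ▸ Subgroup.orderOf_dvd_natCard (P : Subgroup R) hx) with h | h
      · exact absurd (orderOf_eq_one_iff.1 h) hx1
      · exact h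
    have hgen : (P : Subgroup R) = zpowers x := (Subgroup.eq_of_le_of_card_ge (zpowers_le.2 hx)
      (by rw [hPc, Nat.card_zpowers, hord])).symm
    have hb' := hP ⟨b, mem_zpowers b⟩ x hx
    rw [hgen] at hb'
    obtain ⟨k, hk⟩ := (Submonoid.mem_powers_iff _ _).1 (mem_powers_iff_mem_zpowers.2 hb')
    have hk' : b * (x : G) * b⁻¹ = (x : G) ^ k := by
      have := congrArg Subtype.val hk
      push_cast at this
      rw [this]
      rfl
    set y : G := (x : G) with hy
    have hy5 : y ^ 5 = 1 := by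
      have h : x ^ 5 = 1 := by rw [← hord, pow_orderOf_eq_one]
      exact congrArg Subtype.val h
    have hk3 : y ^ (k * k * k) = y := by
      calc y ^ (k * k * k) = ((y ^ k) ^ k) ^ k := by rw [← pow_mul, ← pow_mul, mul_assoc]
        _ = ((b * y * b⁻¹) ^ k) ^ k := by rw [hk']
        _ = (b * (b * y * b⁻¹) * b⁻¹) ^ k := by rw [conj_pow, hk']
        _ = b * (b * (b * y * b⁻¹) * b⁻¹) * b⁻¹ := by
          rw [conj_pow, conj_pow, ← hk']
        _ = (b * b * b) * y * (b * b * b)⁻¹ := by group
        _ = y := by rw [← pow_three', S.cube]; group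
    have hyo : orderOf y = 5 := by rw [hy, Subgroup.orderOf_coe, hord]
    have hmod : k * k * k ≡ 1 [MOD 5] := by
      rw [← hyo]; exact pow_eq_pow_iff_modEq.1 (by rw [hk3, pow_one])
    have hk1 : k % 5 = 1 := by
      have : (k % 5) * (k % 5) * (k % 5) ≡ 1 [MOD 5] :=
        (((Nat.mod_modEq k 5).mul (Nat.mod_modEq k 5)).mul (Nat.mod_modEq k 5)).trans hmod
      have hlt : k % 5 < 5 := Nat.mod_lt _ (by norm_num)
      unfold Nat.ModEq at this
      interval_cases h : k % 5 <;> simp_all
    have hbx : b * y * b⁻¹ = y := by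
      rw [hk', ← pow_mod_orderOf, hyo, hk1, pow_one]
    have := S.five_eq_one h4 hb hy5 (mul_inv_eq_iff_eq_mul.1 hbx).symm
    rw [this, orderOf_one] at hyo
    omega
  have hdvd2 : Nat.card R ∣ 2 ^ 9 * 13 := by
    have hc : Nat.Coprime (Nat.card R) 5 :=
      ((Nat.Prime.coprime_iff_not_dvd (by norm_num)).2 h5).symm
    exact hc.dvd_of_dvd_mul_left (hdvd.trans (by norm_num : 2 ^ 9 * 5 * 13 ∣ 5 * (2 ^ 9 * 13)))
  have h13 : ¬ 13 ∣ Nat.card R := by
    intro h13
    have hf : (Nat.card R).factorization 13 = 1 := by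
      have hle : (Nat.card R).factorization 13 ≤ 1 := by
        by_contra hlt
        push_neg at hlt
        have : 13 ^ 2 ∣ 2 ^ 9 * 13 := ((Nat.pow_dvd_pow 13 hlt).trans
          (Nat.ordProj_dvd _ _)).trans hdvd2
        norm_num at this
      have := (Nat.Prime.dvd_iff_one_le_factorization (by norm_num) Nat.card_pos.ne').1 h13
      omega
    obtain ⟨P⟩ : Nonempty (Sylow 13 R) := inferInstance
    have hPc : Nat.card P = 13 := by rw [P.card_eq_multiplicity, hf, pow_one]
    have hidx : (P : Subgroup R).index ∣ 2 ^ 9 := by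
      have := (P : Subgroup R).card_mul_index
      rw [hPc] at this
      rw [← this, mul_comm (2 ^ 9) 13] at hdvd2
      exact Nat.dvd_of_mul_dvd_mul_left (by norm_num) hdvd2
    have hn1 : Nat.card (Sylow 13 R) = 1 := by
      have h1 := card_sylow_modEq_one 13 R
      obtain ⟨j, hj, hj'⟩ := (Nat.dvd_prime_pow Nat.prime_two).1 (P.card_dvd_index.trans hidx)
      rw [hj'] at h1 ⊢
      unfold Nat.ModEq at h1
      interval_cases j <;> omega
    haveI : Subsingleton (Sylow 13 R) := (Nat.card_eq_one_iff_unique.1 hn1).1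
    haveI : (P : Subgroup R).Characteristic := P.characteristic_of_subsingleton
    set A := (P : Subgroup R).map R.subtype with hA
    haveI : A.Normal := ConjAct.normal_of_characteristic_of_normal
    have hAc : Nat.card A = 13 := by rw [hA, card_map_of_injective R.subtype_injective]; exact hPc
    haveI : IsCyclic A := isCyclic_of_prime_card hAc
    have hpow : ∀ a ∈ A, a ^ 13 = 1 := fun a ha => by
      have : (⟨a, ha⟩ : A) ^ Nat.card A = 1 := pow_card_eq_one'
      rw [hAc] at this
      exact congrArg Subtype.val this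
    obtain ⟨a, ha, ha1⟩ := A.bot_or_exists_ne_one.resolve_left fun h => by
      rw [h, card_bot] at hAc; omega
    have haa : a * a = 1 := by
      rcases S.central_or_mono (A := A) (map_subtype_le _) (fun x hx y hy => by
          letI := IsCyclic.commGroup (α := A)
          exact congrArg Subtype.val (mul_comm (⟨x, hx⟩ : A) ⟨y, hy⟩))
        (by norm_num : Nat.Prime 13) hpow with hc | ⟨⟨M⟩⟩
      · exact S.isZ_sq (S.central_cases fun g => (mem_center_iff.1 (hc ha) g).symm)
      · exact M.sq a ha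
    apply ha1
    calc a = a * (a * a) ^ 6 := by rw [haa, one_pow, mul_one]
      _ = a ^ 13 := by rw [← pow_two, ← pow_mul, ← pow_succ']
      _ = 1 := hpow a ha
  have hdvd3 : Nat.card R ∣ 2 ^ 9 :=
    (((Nat.Prime.coprime_iff_not_dvd (by norm_num)).2 h13).symm).dvd_of_dvd_mul_right hdvd2
  obtain ⟨j, -, hj⟩ := (Nat.dvd_prime_pow Nat.prime_two).1 hdvd3
  exact IsPGroup.of_card hj

end Setup

end Cfsg.Agent.Lib.CubicBlock
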