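import Cfsg.Agent.Lib.CubicBlock.Mono

/-!
Signs of a monomial structure over the field with three elements.
-/

set_option autoImplicit false

namespace Cfsg.Agent.Lib.CubicBlock

open Subgroup

universe u v

variable {G : Type u} [Group G] {V : Type v} [AddCommGroup V] [Module (ZMod 3) V]
  {ρ : Representation (ZMod 3) G V} {R : Subgroup G} {b q : G} {A : Subgroup G}

theorem zmod_three_sq : ∀ c : ZMod 3, c ≠ 0 → c * c = 1 := by decide

namespace Mono

variable (M : Mono ρ b A)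

/-- The sign of `g` at `i`. -/
noncomputable def sgn (g : G) (i : M.ι) : ZMod 3 := (M.mono g i).choose

theorem rho_e (g : G) (i : M.ι) : ρ g (M.e i) = M.sgn g i • M.e (M.π g i) :=
  (M.mono g i).choose_spec

theorem sgn_ne_zero (g : G) (i : M.ι) : M.sgn g i ≠ 0 := fun h => M.e.ne_zero i (by
  rw [← rho_inv (ρ := ρ) g (M.e i), M.rho_e, h, zero_smul, map_zero])

theorem sgn_eq {g : G} {i : M.ι} {c : ZMod 3} (h : ρ g (M.e i) = c • M.e (M.π g i)) :
    M.sgn g i = c := by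
  rw [M.rho_e] at h
  exact smul_left_injective (ZMod 3) (M.e.ne_zero _) h

theorem sgn_one (i : M.ι) : M.sgn 1 i = 1 := M.sgn_eq (by simp)

theorem sgn_mul (g h : G) (i : M.ι) : M.sgn (g * h) i = M.sgn g (M.π h i) * M.sgn h i :=
  M.sgn_eq (by
    rw [rho_mul, M.rho_e, map_smul, M.rho_e, smul_smul, mul_comm, map_mul]
    rfl)

theorem sgn_sq (g : G) (i : M.ι) : M.sgn g i * M.sgn g i = 1 :=
  zmod_three_sq _ (M.sgn_ne_zero g i)

theorem sgn_cases (g : G) (i : M.ι) : M.sgn g i = 1 ∨ M.sgn g i = -1 :=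
  (zmod_three_cases _).resolve_left (M.sgn_ne_zero g i)

theorem sgn_mul_of_ker {g h : G} (hh : M.π h = 1) (i : M.ι) :
    M.sgn (g * h) i = M.sgn g i * M.sgn h i := by
  rw [M.sgn_mul, hh, Equiv.Perm.one_apply]

theorem ext_ker (hinj : Function.Injective ρ) {g h : G} (hg : M.π g = M.π h)
    (hs : ∀ i, M.sgn g i = M.sgn h i) : g = h := by
  refine hinj (M.e.ext fun i => ?_)
  rw [M.rho_e, M.rho_e, hg, hs]

/-- The product of the signs. -/
noncomputable def chi : G →* ZMod 3 where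
  toFun g := ∏ i, M.sgn g i
  map_one' := Finset.prod_eq_one fun i _ => M.sgn_one i
  map_mul' g h := by
    rw [Finset.prod_congr rfl fun i _ => M.sgn_mul g h i, Finset.prod_mul_distrib,
      Equiv.prod_comp (M.π h) (fun i => M.sgn g i)]

theorem chi_apply (g : G) : M.chi g = ∏ i, M.sgn g i := rfl

theorem chi_eq_one (S : Setup ρ R b q) {x : G} (hx : x ∈ R) : M.chi x = 1 := by
  refine MonoidHom.mem_ker.1 ((S.comm M.chi.ker fun r _ => ?_) hx)
  rw [MonoidHom.mem_ker, map_mul, map_mul, map_mul]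
  have h1 : M.chi b * M.chi b⁻¹ = 1 := by rw [← map_mul, mul_inv_cancel, map_one]
  have h2 : M.chi r * M.chi r⁻¹ = 1 := by rw [← map_mul, mul_inv_cancel, map_one]
  calc M.chi b * M.chi r * M.chi b⁻¹ * M.chi r⁻¹
      = (M.chi b * M.chi b⁻¹) * (M.chi r * M.chi r⁻¹) := by ring
    _ = 1 := by rw [h1, h2, one_mul]

theorem three_le_card : 3 ≤ Fintype.card M.ι := by
  rw [← M.three.card_support]
  exact Finset.card_le_univ _

end Mono

set_option synthInstance.maxSize 2000 in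
theorem perm_three_fact :
    ∀ σ c : Equiv.Perm (Fin 3), c ^ 3 = 1 → c ≠ 1 → σ ^ 8 = 1 →
      (σ * c * σ⁻¹ * c⁻¹) ^ 8 = 1 → σ = 1 := by decide +kernel

set_option synthInstance.maxSize 2000 in
theorem perm_four_fact :
    ∀ σ c : Equiv.Perm (Fin 4), c ^ 3 = 1 → c ≠ 1 → σ ^ 8 = 1 →
      (σ * c * σ⁻¹ * c⁻¹) ^ 8 = 1 → σ * σ = 1 ∧ (σ = 1 ∨ ∀ i, σ i ≠ i) := by decide +kernel

theorem pow_eight_of_two_group {n : ℕ} (hn : n ≤ 4) {σ : Equiv.Perm (Fin n)} {k : ℕ}
    (h : σ ^ 2 ^ k = 1) : σ ^ 8 = 1 := by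
  obtain ⟨j, -, hj⟩ := (Nat.dvd_prime_pow Nat.prime_two).1 (orderOf_dvd_of_pow_eq_one h)
  have hd : orderOf σ ∣ Nat.factorial n := by
    have := orderOf_dvd_natCard σ
    rwa [Nat.card_perm, Nat.card_fin] at this
  have hd4 : orderOf σ ∣ 24 := hd.trans ((Nat.factorial_dvd_factorial hn).trans (dvd_refl 24))
  have hj3 : j ≤ 3 := by
    by_contra hlt
    push_neg at hlt
    have : 2 ^ 4 ∣ 24 := ((Nat.pow_dvd_pow 2 hlt).trans (hj ▸ dvd_refl _)).trans hd4
    norm_num at this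
  exact orderOf_dvd_iff_pow_eq_one.1 (hj ▸ (Nat.pow_dvd_pow 2 hj3 : 2 ^ j ∣ 2 ^ 3))

namespace Mono

variable (M : Mono ρ b A)

/-- The permutations of the elements of a 2-group `R`. -/
theorem perm_R (S : Setup ρ R b q) (hR2 : IsPGroup 2 R) {x : G} (hx : x ∈ R) :
    (Fintype.card M.ι = 3 → M.π x = 1) ∧
      (Fintype.card M.ι = 4 → M.π x * M.π x = 1 ∧ (M.π x = 1 ∨ ∀ i, M.π x i ≠ i)) := by
  have pow2 : ∀ y ∈ R, ∃ k, M.π y ^ 2 ^ k = 1 := fun y hy => by
    obtain ⟨k, hk⟩ := hR2 ⟨y, hy⟩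
    exact ⟨k, by rw [← map_pow, show y ^ 2 ^ k = 1 from congrArg Subtype.val hk, map_one]⟩
  have hc : x * b * x⁻¹ * b⁻¹ ∈ R := by
    have := R.mul_mem hx (S.normal.conj_mem _ (R.inv_mem hx) b)
    simpa [mul_assoc] using this
  have trans : ∀ n, n ≤ 4 → ∀ ε : M.ι ≃ Fin n,
      (ε.permCongrHom (M.π b)) ^ 3 = 1 ∧ ε.permCongrHom (M.π b) ≠ 1 ∧
      (ε.permCongrHom (M.π x)) ^ 8 = 1 ∧
      (ε.permCongrHom (M.π x) * ε.permCongrHom (M.π b) * (ε.permCongrHom (M.π x))⁻¹ *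
        (ε.permCongrHom (M.π b))⁻¹) ^ 8 = 1 := by
    intro n hn ε
    refine ⟨by rw [← map_pow, ← map_pow, S.cube, map_one, map_one], fun h => ?_, ?_, ?_⟩
    · have h' : M.π b = 1 := ε.permCongrHom.injective (h.trans (map_one _).symm)
      have := M.three.card_support
      rw [h'] at this
      simp at this
    · obtain ⟨k, hk⟩ := pow2 x hx
      exact pow_eight_of_two_group hn (k := k) (by rw [← map_pow, hk, map_one])
    · obtain ⟨k, hk⟩ := pow2 _ hc
      refine pow_eight_of_two_group hn (k := k) ?_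
      have e : M.π x * M.π b * (M.π x)⁻¹ * (M.π b)⁻¹ = M.π (x * b * x⁻¹ * b⁻¹) := by
        simp only [map_mul, map_inv]
      rw [show ε.permCongrHom (M.π x) * ε.permCongrHom (M.π b) * (ε.permCongrHom (M.π x))⁻¹ *
          (ε.permCongrHom (M.π b))⁻¹ = ε.permCongrHom (M.π x * M.π b * (M.π x)⁻¹ * (M.π b)⁻¹) by
        simp only [map_mul, map_inv], e, ← map_pow, hk, map_one]
  refine ⟨fun h3 => ?_, fun h4 => ?_⟩
  · let ε := Fintype.equivFinOfCardEq h3
    obtain ⟨a1, a2, a3, a4⟩ := trans 3 (by norm_num) ε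
    exact ε.permCongrHom.injective ((perm_three_fact _ _ a1 a2 a3 a4).trans (map_one _).symm)
  · let ε := Fintype.equivFinOfCardEq h4
    obtain ⟨a1, a2, a3, a4⟩ := trans 4 le_rfl ε
    obtain ⟨f1, f2⟩ := perm_four_fact _ _ a1 a2 a3 a4
    refine ⟨ε.permCongrHom.injective ?_, f2.imp (fun h => ε.permCongrHom.injective
      (h.trans (map_one _).symm)) fun h i hi => h (ε i) ?_⟩
    · rw [map_mul, f1, map_one]
    · show ε (M.π x (ε.symm (ε i))) = ε i
      rw [Equiv.symm_apply_apply, hi]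

end Mono

end Cfsg.Agent.Lib.CubicBlock
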