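import Cfsg.Agent.Lib.CubicBlock.Core
import Cfsg.Agent.Lib.CubicBlock.Signs

/-!
The structure of the normal subgroup of the setup.
-/

set_option autoImplicit false

namespace Cfsg.Agent.Lib.CubicBlock

open Subgroup

universe u v

variable {G : Type u} [Group G] [Finite G] {V : Type v} [AddCommGroup V] [Module (ZMod 3) V]
  [Finite V] {ρ : Representation (ZMod 3) G V} {R : Subgroup G} {b q : G}

set_option synthInstance.maxSize 2000 in
theorem card_signs_three :
    Fintype.card {v : Fin 3 → ZMod 3 // (∀ i, v i ≠ 0) ∧ ∏ i, v i = 1} = 4 := by decide +kernel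

/-- The possible structures of `R`. -/
def Shape (R : Subgroup G) : Prop :=
  ((∀ x ∈ R, x * x = 1) ∧ (∀ x ∈ R, ∀ y ∈ R, x * y = y * x) ∧ Nat.card R = 4) ∨
  (Nat.card R = 32 ∧ (∃ z ∈ R, z ≠ 1 ∧ (∀ x ∈ R, z * x = x * z) ∧
      (∀ x ∈ R, (∀ y ∈ R, x * y = y * x) → x = 1 ∨ x = z) ∧ (∀ x ∈ R, x * x = 1 ∨ x * x = z) ∧
      ∀ x ∈ R, ∀ y ∈ R, x * y * x⁻¹ * y⁻¹ = 1 ∨ x * y * x⁻¹ * y⁻¹ = z) ∧
    (∃ x ∈ R, ∃ y ∈ R, x * y ≠ y * x) ∧
    ∃ K ≤ R, (∀ x ∈ K, x * x = 1) ∧ (∀ x ∈ K, ∀ y ∈ K, x * y = y * x) ∧ Nat.card K = 8)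

namespace Setup

variable (S : Setup ρ R b q)
include S

theorem shape_three {A : Subgroup G} (M : Mono ρ b A) (hR2 : IsPGroup 2 R)
    (h3 : Fintype.card M.ι = 3) : Shape R := by
  left
  have hker : ∀ x ∈ R, M.π x = 1 := fun x hx => (M.perm_R S hR2 hx).1 h3
  refine ⟨fun x hx => M.ext_ker S.inj (by rw [map_mul, hker x hx, one_mul, map_one]) fun i => ?_,
    fun x hx y hy => M.ext_ker S.inj (by rw [map_mul, map_mul, hker x hx, hker y hy]) fun i => ?_,
    le_antisymm ?_ ?_⟩
  · rw [M.sgn_mul_of_ker (hker x hx), M.sgn_sq, M.sgn_one]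
  · rw [M.sgn_mul_of_ker (hker y hy), M.sgn_mul_of_ker (hker x hx), mul_comm]
  · let ε := Fintype.equivFinOfCardEq h3
    let f : R → {v : Fin 3 → ZMod 3 // (∀ i, v i ≠ 0) ∧ ∏ i, v i = 1} := fun x =>
      ⟨fun k => M.sgn x (ε.symm k), fun k => M.sgn_ne_zero _ _, by
        rw [Equiv.prod_comp ε.symm (fun i => M.sgn (x : G) i)]
        exact M.chi_eq_one S x.2⟩
    have hf : Function.Injective f := fun x y h => Subtype.ext
      (M.ext_ker S.inj (by rw [hker x x.2, hker y y.2]) fun i => by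
        have := congrFun (congrArg Subtype.val h) (ε i)
        simpa [f] using this)
    have := Nat.card_le_card_of_injective f hf
    rwa [Nat.card_eq_fintype_card (α := {v : Fin 3 → ZMod 3 // (∀ i, v i ≠ 0) ∧ ∏ i, v i = 1}),
      card_signs_three] at this
  · classical
    set q1 := b * q * b⁻¹ with hq1
    have h1 : q1 ≠ 1 := fun h => S.q_ne_one (by
      rw [hq1, mul_inv_eq_one] at h
      exact mul_eq_left.1 h)
    have h2 : q * q1 ≠ 1 := fun h => S.q_ne (mul_left_cancel (h.trans S.q_sq.symm))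
    have hR1 : q1 ∈ R := S.normal.conj_mem q S.q_mem b
    let f : Fin 4 → R := ![1, ⟨q, S.q_mem⟩, ⟨q1, hR1⟩, ⟨q * q1, R.mul_mem S.q_mem hR1⟩]
    have hf : Function.Injective f := by
      rw [← List.nodup_ofFn]
      have n1 : q ≠ q * q1 := fun h => h1 (mul_eq_left.1 h.symm)
      have n2 : q1 ≠ q * q1 := fun h => S.q_ne_one (mul_eq_right.1 h.symm)
      simp [f, List.ofFn_succ, Subtype.ext_iff, Ne.symm h1, Ne.symm h2, Ne.symm S.q_ne_one,
        Ne.symm (hq1 ▸ S.q_ne : q1 ≠ q), n1, n2]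
    have := Nat.card_le_card_of_injective f hf
    rwa [Nat.card_eq_fintype_card (α := Fin 4), Fintype.card_fin] at this

theorem shape_four {A : Subgroup G} (M : Mono ρ b A) (hAR : A ≤ R) (hR2 : IsPGroup 2 R)
    (h4 : Fintype.card M.ι = 4) : Shape R := by
  classical
  right
  haveI := S.normal
  have hperm : ∀ x ∈ R, M.π x * M.π x = 1 ∧ (M.π x = 1 ∨ ∀ i, M.π x i ≠ i) :=
    fun x hx => (M.perm_R S hR2 hx).2 h4
  have hchi : ∀ x ∈ R, ∏ i, M.sgn x i = 1 := fun x hx => M.chi_eq_one S hx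
  obtain ⟨i₀, hi₀⟩ : ∃ i, i ∉ (M.π b).support := by
    by_contra h
    push_neg at h
    have : (Finset.univ : Finset M.ι) ⊆ (M.π b).support := fun i _ => h i
    have := Finset.card_le_card this
    rw [Finset.card_univ, h4, M.three.card_support] at this
    omega
  have hb0 : M.π b i₀ = i₀ := Equiv.Perm.notMem_support.1 hi₀
  have hbi : M.π b⁻¹ i₀ = i₀ := by rw [map_inv, Equiv.Perm.inv_eq_iff_eq, hb0]
  have hsupp : ∀ i, i ≠ i₀ → i ∈ (M.π b).support := by
    intro i hi
    by_contra hn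
    have hsub : (M.π b).support ⊆ (Finset.univ.erase i).erase i₀ := fun k hk =>
      Finset.mem_erase.2 ⟨fun e => hi₀ (e ▸ hk), Finset.mem_erase.2 ⟨fun e => hn (e ▸ hk),
        Finset.mem_univ k⟩⟩
    have := Finset.card_le_card hsub
    rw [M.three.card_support, Finset.card_erase_of_mem (Finset.mem_erase.2 ⟨hi.symm,
      Finset.mem_univ _⟩), Finset.card_erase_of_mem (Finset.mem_univ _), Finset.card_univ, h4] at this
    omega
  have orb : ∀ j, j ≠ i₀ → ∀ i, i ≠ i₀ → i = j ∨ i = M.π b j ∨ i = M.π b (M.π b j) := by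
    intro j hj i hi
    have := (support_three M.three (hsupp j hj)).2.2.2.2 ▸ hsupp i hi
    simpa using this
  -- some element moves `i₀`
  obtain ⟨x₀, hx₀, hx₀1⟩ : ∃ x ∈ R, M.π x ≠ 1 := by
    by_contra h
    push_neg at h
    let N : Subgroup G := {
      carrier := {x | M.π x = 1 ∧ M.sgn x i₀ = 1}
      one_mem' := ⟨map_one _, M.sgn_one _⟩
      mul_mem' := fun {x y} (hx : M.π x = 1 ∧ M.sgn x i₀ = 1) (hy : M.π y = 1 ∧ M.sgn y i₀ = 1) =>
        ⟨by rw [map_mul, hx.1, hy.1, one_mul], by rw [M.sgn_mul_of_ker hy.1, hx.2, hy.2, one_mul]⟩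
      inv_mem' := fun {x} (hx : M.π x = 1 ∧ M.sgn x i₀ = 1) =>
        ⟨by rw [map_inv, hx.1, inv_one], by
          have := M.sgn_mul_of_ker (g := x⁻¹) hx.1 i₀
          rw [inv_mul_cancel, M.sgn_one, hx.2, mul_one] at this
          exact this.symm⟩ }
    have hRN : R ≤ N := S.comm N fun x hx => by
      have h1 : M.π (b * x * b⁻¹ * x⁻¹) = 1 := by
        simp only [map_mul, map_inv, h x hx, mul_one, inv_one, mul_inv_cancel]
      refine ⟨h1, ?_⟩
      have hxi : M.π x⁻¹ = 1 := by rw [map_inv, h x hx, inv_one]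
      have e1 : M.sgn b i₀ * M.sgn b⁻¹ i₀ = 1 := by
        rw [← M.sgn_one i₀, ← mul_inv_cancel b, M.sgn_mul, hbi]
      have e2 : M.sgn x i₀ * M.sgn x⁻¹ i₀ = 1 := by
        rw [← M.sgn_mul_of_ker hxi, mul_inv_cancel, M.sgn_one]
      rw [M.sgn_mul_of_ker hxi, M.sgn_mul, hbi, M.sgn_mul, h x hx, Equiv.Perm.one_apply]
      calc M.sgn b i₀ * M.sgn x i₀ * M.sgn b⁻¹ i₀ * M.sgn x⁻¹ i₀
          = (M.sgn b i₀ * M.sgn b⁻¹ i₀) * (M.sgn x i₀ * M.sgn x⁻¹ i₀) := by ring
        _ = 1 := by rw [e1, e2, one_mul]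
    have hfix : M.e i₀ ∈ fixSub ρ R := fun x hx => by
      rw [M.rho_e, (hRN hx).1, (hRN hx).2, one_smul]; rfl
    rw [S.fix_eq_bot (fun hb' => S.q_ne_one (mem_bot.1 (hb' ▸ S.q_mem))), Submodule.mem_bot] at hfix
    exact M.e.ne_zero i₀ hfix
  have hj : M.π x₀ i₀ ≠ i₀ := ((hperm x₀ hx₀).2.resolve_left hx₀1) i₀
  have conjb : ∀ x ∈ R, ∀ j, M.π x i₀ = j → M.π (b * x * b⁻¹) i₀ = M.π b j := fun x _ j h => by
    rw [map_mul, map_mul, Equiv.Perm.mul_apply, Equiv.Perm.mul_apply, hbi, h]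
  have htr : ∀ i, ∃ y ∈ R, M.π y i₀ = i := by
    intro i
    by_cases hi : i = i₀
    · exact ⟨1, R.one_mem, by rw [map_one, hi]; rfl⟩
    have hbx := Normal.conj_mem S.normal x₀ hx₀ b
    rcases orb _ hj i hi with rfl | rfl | rfl
    · exact ⟨x₀, hx₀, rfl⟩
    · exact ⟨_, hbx, conjb x₀ hx₀ _ rfl⟩
    · exact ⟨_, Normal.conj_mem S.normal _ hbx b, conjb _ hbx _ (conjb x₀ hx₀ _ rfl)⟩
  let K : Subgroup G := R ⊓ M.π.ker
  have hKπ : ∀ {x}, x ∈ K → M.π x = 1 := fun hx => hx.2
  -- elements of `K` negative at one point besides `i₀`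
  have hdet : ∀ x ∈ K, ∀ y ∈ K, (∀ i, i ≠ i₀ → M.sgn x i = M.sgn y i) → x = y := by
    intro x hx y hy h
    refine M.ext_ker S.inj (by rw [hKπ hx, hKπ hy]) fun i => ?_
    by_cases hi : i = i₀
    · subst hi
      have e1 := hchi x hx.1
      have e2 := hchi y hy.1
      rw [← Finset.mul_prod_erase _ _ (Finset.mem_univ i)] at e1 e2
      rw [Finset.prod_congr rfl fun k hk => h k (Finset.mem_erase.1 hk).1] at e1
      exact mul_right_cancel₀ (right_ne_zero_of_mul_eq_one e2) (e1.trans e2.symm)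
    · exact h i hi
  have hone : ∀ k, k ≠ i₀ → ∃ a ∈ K, ∀ i, i ≠ i₀ → M.sgn a i = if i = k then -1 else 1 := by
    obtain ⟨a, ha, ha1, ha2⟩ := M.sep i₀ (M.π x₀ i₀) hj.symm
    have haπ := M.ker a ha
    rw [M.rho_e, haπ, Equiv.Perm.one_apply] at ha1 ha2
    have s0 : M.sgn a i₀ = -1 := (M.sgn_cases a i₀).resolve_left fun h => ha1 (by rw [h, one_smul])
    set j := M.π x₀ i₀ with hjdef
    have sj : M.sgn a j = 1 := smul_left_injective (ZMod 3) (M.e.ne_zero j)
      (show M.sgn a j • M.e j = (1 : ZMod 3) • M.e j by rw [ha2, one_smul])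
    obtain ⟨c1, c2, c3, c4, -⟩ := support_three M.three (hsupp j hj)
    have hne : ∀ i, i ≠ i₀ → M.π b i ≠ i₀ := fun i hi h =>
      hi ((M.π b).injective (h.trans hb0.symm))
    have hprod : M.sgn a (M.π b j) * M.sgn a (M.π b (M.π b j)) = -1 := by
      have e := hchi a (hAR ha)
      have hu : (Finset.univ : Finset M.ι) = {i₀, j, M.π b j, M.π b (M.π b j)} := by
        symm
        refine Finset.eq_univ_iff_forall.2 fun i => ?_
        by_cases hi : i = i₀
        · simp [hi]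
        · rcases orb j hj i hi with rfl | rfl | rfl <;> simp
      rw [hu, Finset.prod_insert (by simp [hj.symm, (hne j hj).symm, (hne _ (hne j hj)).symm]),
        Finset.prod_insert (by simp [c1, c3]), Finset.prod_pair c2, s0, sj, one_mul,
        neg_one_mul, neg_eq_iff_eq_neg] at e
      exact e
    obtain ⟨k₁, hk₁, hk₁'⟩ : ∃ k, k ≠ i₀ ∧ ∀ i, i ≠ i₀ → M.sgn a i = if i = k then -1 else 1 := by
      rcases M.sgn_cases a (M.π b j) with hB | hB
      · rw [hB, one_mul] at hprod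
        refine ⟨_, hne _ (hne j hj), fun i hi => ?_⟩
        rcases orb j hj i hi with rfl | rfl | rfl
        · rw [if_neg c3, sj]
        · rw [if_neg c2, hB]
        · rw [if_pos rfl, hprod]
      · rw [hB, neg_one_mul, neg_inj] at hprod
        refine ⟨_, hne j hj, fun i hi => ?_⟩
        rcases orb j hj i hi with rfl | rfl | rfl
        · rw [if_neg c1, sj]
        · rw [if_pos rfl, hB]
        · rw [if_neg c2.symm, hprod]
    have shift : ∀ a ∈ K, ∀ k, (∀ i, i ≠ i₀ → M.sgn a i = if i = k then -1 else 1) →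
        ∀ i, i ≠ i₀ → M.sgn (b * a * b⁻¹) i = if i = M.π b k then -1 else 1 := by
      intro a ha k hk i hi
      set i' := M.π b⁻¹ i with hi'
      have hib : M.π b i' = i := by
        rw [hi', ← Equiv.Perm.mul_apply, ← map_mul, mul_inv_cancel, map_one]; rfl
      have hi'0 : i' ≠ i₀ := fun h => hi (by rw [← hib, h, hb0])
      have e1 : M.sgn b i' * M.sgn b⁻¹ i = 1 := by
        rw [← M.sgn_one i, ← mul_inv_cancel b, M.sgn_mul]
      rw [M.sgn_mul, ← hi', M.sgn_mul, hKπ ha, Equiv.Perm.one_apply,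
        show M.sgn b i' * M.sgn a i' * M.sgn b⁻¹ i =
          M.sgn b i' * M.sgn b⁻¹ i * M.sgn a i' by ring, e1, one_mul, hk i' hi'0, ← hib]
      simp [(M.π b).injective.eq_iff]
    have hbK : ∀ x ∈ K, b * x * b⁻¹ ∈ K := fun x hx => ⟨Normal.conj_mem S.normal x hx.1 b, by
      show M.π (b * x * b⁻¹) = 1
      rw [map_mul, map_mul, hKπ hx, mul_one, ← map_mul, mul_inv_cancel, map_one]⟩
    have haK : a ∈ K := ⟨hAR ha, haπ⟩
    intro k hk
    rcases orb k₁ hk₁ k hk with rfl | rfl | rfl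
    · exact ⟨a, haK, hk₁'⟩
    · exact ⟨_, hbK a haK, shift a haK _ hk₁'⟩
    · exact ⟨_, hbK _ (hbK a haK), shift _ (hbK a haK) _ (shift a haK _ hk₁')⟩
  have hany : ∀ T : Finset M.ι, i₀ ∉ T →
      ∃ x ∈ K, ∀ i, i ≠ i₀ → M.sgn x i = if i ∈ T then -1 else 1 := by
    intro T
    induction T using Finset.induction_on with
    | empty => exact fun _ => ⟨1, K.one_mem, fun i _ => by simp [M.sgn_one]⟩
    | insert k T hk ih =>
      intro hT
      rw [Finset.mem_insert, not_or] at hT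
      obtain ⟨x, hx, hxs⟩ := ih hT.2
      obtain ⟨a, ha, has⟩ := hone k (Ne.symm hT.1)
      refine ⟨x * a, K.mul_mem hx ha, fun i hi => ?_⟩
      rw [M.sgn_mul_of_ker (hKπ ha), hxs i hi, has i hi]
      by_cases hik : i = k
      · simp [hik, hk]
      · simp [hik]
  have hKsq : ∀ x ∈ K, x * x = 1 := fun x hx => M.ext_ker S.inj
    (by rw [map_mul, hKπ hx, one_mul, map_one]) fun i => by
      rw [M.sgn_mul_of_ker (hKπ hx), M.sgn_sq, M.sgn_one]
  have hKc : ∀ x ∈ K, ∀ y ∈ K, x * y = y * x := fun x hx y hy => M.ext_ker S.inj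
    (by rw [map_mul, map_mul, hKπ hx, hKπ hy]) fun i => by
      rw [M.sgn_mul_of_ker (hKπ hy), M.sgn_mul_of_ker (hKπ hx), mul_comm]
  have hK8 : Nat.card K = 8 := by
    let f : K → ({i : M.ι // i ≠ i₀} → Bool) := fun x i => decide (M.sgn (x : G) i = -1)
    have hf : Function.Bijective f := by
      refine ⟨fun x y h => Subtype.ext (hdet x x.2 y y.2 fun i hi => ?_), fun v => ?_⟩
      · have h' := congrFun h ⟨i, hi⟩
        simp only [f, decide_eq_decide] at h'
        rcases M.sgn_cases (x : G) i with h1 | h1 <;> rcases M.sgn_cases (y : G) i with h2 | h2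
        · rw [h1, h2]
        · exfalso; rw [h1, h2] at h'; exact absurd (h'.2 rfl) (by decide)
        · exfalso; rw [h1, h2] at h'; exact absurd (h'.1 rfl) (by decide)
        · rw [h1, h2]
      · obtain ⟨x, hx, hxs⟩ := hany (Finset.univ.filter fun i => ∃ h : i ≠ i₀, v ⟨i, h⟩ = true)
          (by simp)
        refine ⟨⟨x, hx⟩, funext fun i => ?_⟩
        show decide (M.sgn x i = -1) = v i
        rw [hxs i i.2]
        cases hv : v i
        · rw [if_neg (by simp [hv])]; decide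
        · rw [if_pos (by simp [hv, i.2])]; simp
    rw [Nat.card_congr (Equiv.ofBijective f hf), Nat.card_eq_fintype_card, Fintype.card_fun,
      Fintype.card_bool, Fintype.card_subtype_compl, Fintype.card_subtype_eq, h4]
    norm_num
  have hdec : ∀ x ∈ R, ∀ y ∈ R, M.π x i₀ = M.π y i₀ → x⁻¹ * y ∈ K := by
    intro x hx y hy h
    have hm := R.mul_mem (R.inv_mem hx) hy
    refine ⟨hm, ?_⟩
    refine (hperm _ hm).2.resolve_right fun h' => h' i₀ ?_
    rw [map_mul, map_inv, Equiv.Perm.mul_apply, Equiv.Perm.inv_eq_iff_eq, h]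
  choose y hy hyi using htr
  have hR32 : Nat.card R = 32 := by
    let f : M.ι × K → R := fun p => ⟨y p.1 * (p.2 : G), R.mul_mem (hy _) p.2.2.1⟩
    have hf : Function.Bijective f := by
      refine ⟨fun p p' h => ?_, fun x => ?_⟩
      · have h' : y p.1 * (p.2 : G) = y p'.1 * (p'.2 : G) := congrArg Subtype.val h
        have h1 : p.1 = p'.1 := by
          have := congrArg (fun g => M.π g i₀) h'
          simpa [map_mul, hKπ p.2.2, hKπ p'.2.2, hyi] using this
        rw [h1] at h'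
        exact Prod.ext h1 (Subtype.ext (mul_left_cancel h'))
      · exact ⟨(M.π (x : G) i₀, ⟨(y (M.π (x : G) i₀))⁻¹ * x,
          hdec _ (hy _) _ x.2 (hyi _)⟩), Subtype.ext (mul_inv_cancel_left _ _)⟩
    rw [← Nat.card_congr (Equiv.ofBijective f hf), Nat.card_prod, hK8,
      Nat.card_eq_fintype_card, h4]
  obtain ⟨z, hz, hzs'⟩ := hany (Finset.univ.erase i₀) (by simp)
  have hzs : ∀ i, M.sgn z i = -1 := by
    intro i
    by_cases hi : i = i₀
    · subst hi
      have e := hchi z hz.1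
      rw [← Finset.mul_prod_erase _ _ (Finset.mem_univ i), Finset.prod_congr rfl
        (fun k hk => by rw [hzs' k (Finset.mem_erase.1 hk).1, if_pos hk] :
          ∀ k ∈ Finset.univ.erase i, M.sgn z k = (-1 : ZMod 3)), Finset.prod_const,
        Finset.card_erase_of_mem (Finset.mem_univ i), Finset.card_univ, h4] at e
      calc M.sgn z i = M.sgn z i * (-1) ^ 3 * (-1) := by ring
        _ = -1 := by rw [show (4 - 1 : ℕ) = 3 from rfl] at e; rw [e, one_mul]
    · rw [hzs' i hi, if_pos (Finset.mem_erase.2 ⟨hi, Finset.mem_univ i⟩)]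
  have hconst : ∀ x ∈ K, (∀ i, M.sgn x i = M.sgn x i₀) → x = 1 ∨ x = z := by
    intro x hx h
    rcases M.sgn_cases x i₀ with h1 | h1
    · exact Or.inl (M.ext_ker S.inj (by rw [hKπ hx, map_one]) fun i => by
        rw [h i, h1, M.sgn_one])
    · exact Or.inr (M.ext_ker S.inj (by rw [hKπ hx, hKπ hz]) fun i => by rw [h i, h1, hzs])
  have hzc : ∀ x ∈ R, z * x = x * z := fun x _ => M.ext_ker S.inj
    (by rw [map_mul, map_mul, hKπ hz, one_mul, mul_one]) fun i => by
      rw [M.sgn_mul, M.sgn_mul_of_ker (hKπ hz), hzs, hzs, mul_comm]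
  have hz1 : z ≠ 1 := fun h => by
    have := hzs i₀
    rw [h, M.sgn_one] at this
    exact absurd this (by decide)
  have hcen : ∀ x ∈ R, (∀ y ∈ R, x * y = y * x) → x = 1 ∨ x = z := by
    intro x hx hc
    have hxK : x ∈ K := by
      refine ⟨hx, ?_⟩
      by_contra hne
      have hj' : M.π x i₀ ≠ i₀ := ((hperm x hx).2.resolve_left hne) i₀
      obtain ⟨k, hk0, hkj⟩ : ∃ k, k ≠ i₀ ∧ k ≠ M.π x i₀ := by
        by_contra h
        push_neg at h
        have : (Finset.univ : Finset M.ι) ⊆ {i₀, M.π x i₀} := fun i _ => by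
          by_cases hi : i = i₀
          · simp [hi]
          · simp [h i hi]
        have := (Finset.card_le_card this).trans Finset.card_le_two
        rw [Finset.card_univ, h4] at this
        omega
      obtain ⟨a, ha, has⟩ := hone k hk0
      have e := congrArg (fun g => M.sgn g i₀) (hc a ha.1)
      simp only [M.sgn_mul_of_ker (hKπ ha), M.sgn_mul a x, has _ hj', if_neg hkj.symm] at e
      have ha0 : M.sgn a i₀ = -1 := by
        have e' := hchi a ha.1
        rw [← Finset.mul_prod_erase _ _ (Finset.mem_univ i₀), Finset.prod_eq_single k,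
          has k hk0, if_pos rfl] at e'
        · exact mul_right_cancel₀ (right_ne_zero_of_mul_eq_one e') (e'.trans (by decide))
        · intro i hi hik
          rw [has i (Finset.mem_erase.1 hi).1, if_neg hik]
        · exact fun h => absurd (Finset.mem_erase.2 ⟨hk0, Finset.mem_univ k⟩) h
      rw [ha0, one_mul, mul_neg_one] at e
      rcases M.sgn_cases x i₀ with h | h <;> rw [h] at e <;> exact absurd e (by decide)
    refine hconst x hxK fun i => ?_
    have e := congrArg (fun g => M.sgn g i₀) (hc (y i) (hy i))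
    simp only [M.sgn_mul x, M.sgn_mul_of_ker (hKπ hxK), hyi] at e
    exact mul_right_cancel₀ (M.sgn_ne_zero (y i) i₀) (e.trans (mul_comm _ _))
  have hsq : ∀ x ∈ R, x * x = 1 ∨ x * x = z := by
    intro x hx
    obtain ⟨h2, hcase⟩ := hperm x hx
    have hxx : x * x ∈ K := ⟨R.mul_mem hx hx, by
      show M.π (x * x) = 1
      rw [map_mul, h2]⟩
    refine hconst _ hxx fun i => ?_
    rw [M.sgn_mul, M.sgn_mul]
    rcases hcase with h1 | hfpf
    · simp only [h1, Equiv.Perm.one_apply, M.sgn_sq]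
    have inv : ∀ k, M.π x (M.π x k) = k := fun k => by
      rw [← Equiv.Perm.mul_apply, h2, Equiv.Perm.one_apply]
    by_cases hi : i = i₀
    · rw [hi]
    by_cases hi' : i = M.π x i₀
    · rw [hi', inv, mul_comm]
    have n1 : M.π x i ≠ i₀ := fun h => hi' (by rw [← h, inv])
    have n2 : M.π x i ≠ M.π x i₀ := fun h => hi ((M.π x).injective h)
    have hu : (Finset.univ : Finset M.ι) = {i₀, M.π x i₀, i, M.π x i} := by
      refine (Finset.eq_univ_of_card _ ?_).symm
      rw [h4, Finset.card_insert_of_notMem (by simp [(hfpf i₀).symm, Ne.symm hi, n1.symm]),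
        Finset.card_insert_of_notMem (by simp [Ne.symm hi', n2.symm]),
        Finset.card_pair (hfpf i).symm]
    have e := hchi x hx
    rw [hu, Finset.prod_insert (by simp [(hfpf i₀).symm, Ne.symm hi, n1.symm]),
      Finset.prod_insert (by simp [Ne.symm hi', n2.symm]), Finset.prod_pair (hfpf i).symm] at e
    calc M.sgn x (M.π x i) * M.sgn x i
        = M.sgn x (M.π x i) * M.sgn x i *
          (M.sgn x (M.π x i₀) * M.sgn x (M.π x i₀) * (M.sgn x i₀ * M.sgn x i₀)) := by
          rw [M.sgn_sq, M.sgn_sq, one_mul, mul_one]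
      _ = M.sgn x (M.π x i₀) * M.sgn x i₀ *
          (M.sgn x i₀ * (M.sgn x (M.π x i₀) * (M.sgn x i * M.sgn x (M.π x i)))) := by ring
      _ = _ := by rw [e, mul_one]
  have hzz : z * z = 1 := hKsq z hz
  refine ⟨hR32, ⟨z, hz.1, hz1, hzc, hcen, hsq, fun x hx y hy => ?_⟩, ?_,
    K, inf_le_left, hKsq, hKc, hK8⟩
  · have hzi : z⁻¹ = z := inv_eq_of_mul_eq_one_right hzz
    have e : x * y * x⁻¹ * y⁻¹ = x * x * (x⁻¹ * y * (x⁻¹ * y)) * (y * y)⁻¹ := by group
    rw [e]
    rcases hsq x hx with h1 | h1 <;>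
      rcases hsq _ (R.mul_mem (R.inv_mem hx) hy) with h2 | h2 <;>
      rcases hsq y hy with h3 | h3 <;> simp [h1, h2, h3, hzz, hzi]
  · by_contra h
    push_neg at h
    have hle : Nat.card R ≤ 2 := by
      let f : R → Fin 2 := fun x => if (x : G) = 1 then 0 else 1
      have hf : Function.Injective f := fun a c hac => Subtype.ext (by
        simp only [f] at hac
        rcases hcen a a.2 (h a a.2) with h1 | h1 <;> rcases hcen c c.2 (h c c.2) with h2 | h2 <;>
          rw [h1, h2] at hac ⊢ <;> simp [hz1] at hac)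
      have := Nat.card_le_card_of_injective f hf
      rwa [Nat.card_eq_fintype_card (α := Fin 2), Fintype.card_fin] at this
    omega

theorem shape [Group.IsSolvable G] : Shape R := by
  have hR2 := S.isPGroup_two
  obtain ⟨A, hAR, ⟨M⟩⟩ := S.exists_mono hR2
  rcases Nat.lt_or_ge (Fintype.card M.ι) 4 with h | h
  · exact S.shape_three M hR2 (le_antisymm (Nat.lt_succ_iff.1 h) M.three_le_card)
  · exact S.shape_four M hAR hR2 (le_antisymm M.card_le h)

end Setup

end Cfsg.Agent.Lib.CubicBlock
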