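import Mathlib

/-!
Groups over the field with three elements, generated over a normal subgroup of order prime to three
by an element of order three moving only a plane: setup and the basic rank argument.
-/

set_option autoImplicit false

namespace Cfsg.Agent.Lib.CubicBlock

open Subgroup

variable {G : Type*} [Group G] {V : Type*} [AddCommGroup V] [Module (ZMod 3) V]

/-- `R` is a normal subgroup of order prime to three, `G = R⟨b⟩`, `R = [R, b]`, `b` moves a plane,
`G` is irreducible and `q` generates, with its conjugates under `b`, a four-group in `R`. -/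
structure Setup (ρ : Representation (ZMod 3) G V) (R : Subgroup G) (b q : G) : Prop where
  inj : Function.Injective ρ
  normal : R.Normal
  cop : (Nat.card R).Coprime 3
  cube : b ^ 3 = 1
  gen : ∀ g, ∃ r ∈ R, ∃ i : ℕ, g = r * b ^ i
  comm : ∀ N : Subgroup G, (∀ r ∈ R, b * r * b⁻¹ * r⁻¹ ∈ N) → R ≤ N
  rank : Module.finrank (ZMod 3) (LinearMap.range (ρ b - 1)) ≤ 2
  irr : ∀ N : Submodule (ZMod 3) V, (∀ g, ∀ v ∈ N, ρ g v ∈ N) → N = ⊥ ∨ N = ⊤
  q_mem : q ∈ R
  q_sq : q * q = 1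
  q_ne : b * q * b⁻¹ ≠ q
  q_comm : q * (b * q * b⁻¹) = b * q * b⁻¹ * q
  q_prod : q * (b * q * b⁻¹) = b * (b * q * b⁻¹) * b⁻¹

theorem rho_mul {ρ : Representation (ZMod 3) G V} (g h : G) (v : V) :
    ρ (g * h) v = ρ g (ρ h v) := by
  rw [map_mul]; rfl

theorem rho_inv {ρ : Representation (ZMod 3) G V} (g : G) (v : V) : ρ g⁻¹ (ρ g v) = v := by
  rw [← rho_mul, inv_mul_cancel, map_one]; rfl

theorem rho_inv' {ρ : Representation (ZMod 3) G V} (g : G) (v : V) : ρ g (ρ g⁻¹ v) = v := by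
  rw [← rho_mul, mul_inv_cancel, map_one]; rfl

/-- The fixed points of a subgroup. -/
def fixSub (ρ : Representation (ZMod 3) G V) (H : Subgroup G) : Submodule (ZMod 3) V where
  carrier := {v | ∀ h ∈ H, ρ h v = v}
  add_mem' hx hy h hh := by rw [map_add, hx h hh, hy h hh]
  zero_mem' h _ := map_zero _
  smul_mem' c x hx h hh := by rw [map_smul, hx h hh]

theorem mem_fixSub {ρ : Representation (ZMod 3) G V} {H : Subgroup G} {v : V} :
    v ∈ fixSub ρ H ↔ ∀ h ∈ H, ρ h v = v := Iff.rfl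

theorem fixSub_map (ρ : Representation (ZMod 3) G V) (H : Subgroup G) (g : G) {v : V}
    (hv : v ∈ fixSub ρ H) : ρ g v ∈ fixSub ρ (H.map (MulAut.conj g).toMonoidHom) := by
  rintro _ ⟨h, hh, rfl⟩
  show ρ (g * h * g⁻¹) (ρ g v) = ρ g v
  rw [rho_mul, rho_inv, rho_mul, hv h hh]

theorem fixSub_invariant (ρ : Representation (ZMod 3) G V) (H : Subgroup G) [H.Normal] (g : G)
    {v : V} (hv : v ∈ fixSub ρ H) : ρ g v ∈ fixSub ρ H := fun h hh => by
  have h1 : h = g * (g⁻¹ * h * g) * g⁻¹ := by group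
  rw [h1, rho_mul, rho_inv, rho_mul, hv _ (by simpa using Normal.conj_mem ‹_› h hh g⁻¹)]

theorem zmod_three_cases : ∀ c : ZMod 3, c = 0 ∨ c = 1 ∨ c = -1 := by decide

theorem four_smul (v : V) : v + v + v + v = v := by
  have h : (4 : ZMod 3) • v = v := by rw [show (4 : ZMod 3) = 1 from rfl, one_smul]
  calc v + v + v + v = (4 : ZMod 3) • v := by module
    _ = v := h

/-- A moved vector of an invariant subspace gives a vector fixed by `q` and inverted by its
conjugate. -/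
theorem exists_eigen {ρ : Representation (ZMod 3) G V} {b q : G} (hcube : b ^ 3 = 1)
    (hsq : q * q = 1) (hcomm : q * (b * q * b⁻¹) = b * q * b⁻¹ * q)
    (hprod : q * (b * q * b⁻¹) = b * (b * q * b⁻¹) * b⁻¹) {N : Submodule (ZMod 3) V}
    (hb : ∀ v ∈ N, ρ b v ∈ N) (hq : ∀ v ∈ N, ρ q v ∈ N) {v : V} (hvN : v ∈ N) (hv : ρ q v ≠ v) :
    ∃ w ∈ N, w ≠ 0 ∧ ρ q w = w ∧ ρ (b * q * b⁻¹) w = -w := by
  have hb3 : b * (b * (b * q * b⁻¹) * b⁻¹) * b⁻¹ = q := by
    calc b * (b * (b * q * b⁻¹) * b⁻¹) * b⁻¹ = (b * b * b) * q * (b * b * b)⁻¹ := by group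
      _ = q := by rw [← pow_three', hcube]; group
  have hcubev : ∀ x : V, ρ b (ρ b (ρ b x)) = x := fun x => by
    rw [← rho_mul, ← rho_mul, ← pow_three', hcube, map_one]; rfl
  set q1 := b * q * b⁻¹ with hq1
  have hsq1 : q1 * q1 = 1 := by
    calc b * q * b⁻¹ * (b * q * b⁻¹) = b * (q * q) * b⁻¹ := by group
      _ = 1 := by rw [hsq]; group
  have hq1N : ∀ x ∈ N, ρ q1 x ∈ N := fun x hx => by
    have hbi : ρ b⁻¹ x ∈ N := by
      have : ρ b⁻¹ x = ρ b (ρ b x) := by
        conv_lhs => rw [← hcubev x]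
        rw [rho_inv]
      rw [this]; exact hb _ (hb _ hx)
    rw [hq1, rho_mul, rho_mul]; exact hb _ (hq _ hbi)
  set u := v - ρ q v with hu
  have huN : u ∈ N := N.sub_mem hvN (hq v hvN)
  have hu0 : u ≠ 0 := fun h => hv (sub_eq_zero.1 h).symm
  have hqu : ρ q u = -u := by
    rw [hu, map_sub, ← rho_mul, hsq, map_one]
    simp
  have shift : ∀ x : V, ∀ g : G, ρ (b * g * b⁻¹) (ρ b x) = ρ b (ρ g x) := fun x g => by
    rw [← rho_mul, ← rho_mul]; congr 1; group
  have bne : ∀ x : V, x ≠ 0 → ρ b x ≠ 0 := fun x hx h => hx (by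
    rw [← rho_inv (ρ := ρ) b x, h, map_zero])
  set u2 := u + ρ q1 u with hu2
  by_cases h2 : u2 = 0
  · have hq1u : ρ q1 u = -u := eq_neg_of_add_eq_zero_right h2
    have hq2u : ρ (q * q1) u = u := by rw [rho_mul, hq1u, map_neg, hqu, neg_neg]
    refine ⟨ρ b u, hb u huN, bne u hu0, ?_, ?_⟩
    · have h := shift u (q * q1)
      rw [hprod, hb3, ← hprod, hq2u] at h
      exact h
    · rw [hq1, shift, hqu, map_neg]
  · have f1 : ρ q1 u2 = u2 := by
      rw [hu2, map_add, ← rho_mul q1 q1, hsq1, map_one, add_comm]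
      rfl
    have f2 : ρ q u2 = -u2 := by
      rw [hu2, map_add, ← rho_mul, hcomm, rho_mul, hqu, map_neg]
      abel
    refine ⟨ρ b (ρ b u2), hb _ (hb _ (N.add_mem huN (hq1N u huN))), bne _ (bne _ h2), ?_, ?_⟩
    · have h := shift (ρ b u2) (b * q1 * b⁻¹)
      rw [hb3, shift, f1] at h
      exact h
    · have h3 : ρ q (ρ b u2) = -ρ b u2 := by
        have hs := shift u2 (q * q1)
        rw [hprod, hb3, ← hprod, rho_mul, f1, f2, map_neg] at hs
        exact hs
      rw [hq1, shift, h3, map_neg]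

namespace Setup

variable {ρ : Representation (ZMod 3) G V} {R : Subgroup G} {b q : G} (S : Setup ρ R b q)
include S

theorem rho_cube (v : V) : ρ b (ρ b (ρ b v)) = v := by
  rw [← rho_mul, ← rho_mul, ← pow_three', S.cube, map_one]; rfl

/-- The rank argument: two independent triples cannot be moved. -/
theorem key [Finite V] (p : Module.End (ZMod 3) V) {w w' : V} (h1 : p (ρ b w) = 0)
    (h2 : p (ρ b (ρ b w)) = 0) (h3 : p (ρ b w') = 0) (h4 : p (ρ b (ρ b w')) = 0)
    (hli : LinearIndependent (ZMod 3) ![p w, p w']) : False := by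
  haveI : Module.Finite (ZMod 3) V := Module.Finite.of_finite
  set β := ρ b - 1
  let f : Fin 4 → LinearMap.range β :=
    ![⟨β w, w, rfl⟩, ⟨β w', w', rfl⟩, ⟨β (ρ b w), _, rfl⟩, ⟨β (ρ b w'), _, rfl⟩]
  have hf : LinearIndependent (ZMod 3) f := by
    rw [Fintype.linearIndependent_iff]
    intro c hc
    have hc' := congrArg Subtype.val hc
    simp only [Fin.sum_univ_four, f, Submodule.coe_add, Submodule.coe_smul, Submodule.coe_zero,
      Matrix.cons_val_zero, Matrix.cons_val_one, Matrix.cons_val] at hc'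
    have hβ : ∀ v, β v = ρ b v - v := fun v => rfl
    simp only [hβ] at hc'
    have hli' := linearIndependent_fin2.1 hli
    rw [LinearIndependent.pair_iff] at hli
    have hp := congrArg p hc'
    simp only [map_add, map_smul, map_sub, map_zero, h1, h2, h3, h4] at hp
    obtain ⟨e0, e1⟩ := hli (-c 0) (-c 1) (by rw [← hp]; module)
    rw [neg_eq_zero] at e0 e1
    rw [e0, e1] at hc'
    have hp2 := congrArg (fun v => p (ρ b v)) hc'
    simp only [map_add, map_smul, map_sub, map_zero, zero_smul, S.rho_cube, h1, h2, h3, h4]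
      at hp2
    obtain ⟨e2, e3⟩ := hli (c 2) (c 3) (by rw [← hp2]; module)
    intro i
    fin_cases i <;> assumption
  have := hf.fintype_card_le_finrank
  rw [Fintype.card_fin] at this
  have h : Module.finrank (ZMod 3) (LinearMap.range β) ≤ 2 := S.rank
  omega

theorem q_inv : q⁻¹ = q := inv_eq_of_mul_eq_one_right S.q_sq

theorem rel_sq : b * q * b⁻¹ * (b * q * b⁻¹) = 1 := by
  calc b * q * b⁻¹ * (b * q * b⁻¹) = b * (q * q) * b⁻¹ := by group
    _ = 1 := by rw [S.q_sq]; group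

theorem b2_q : b * (b * q * b⁻¹) * b⁻¹ = q * (b * q * b⁻¹) := S.q_prod.symm

theorem b3_q : b * (b * (b * q * b⁻¹) * b⁻¹) * b⁻¹ = q := by
  calc b * (b * (b * q * b⁻¹) * b⁻¹) * b⁻¹ = (b * b * b) * q * (b * b * b)⁻¹ := by group
    _ = q := by rw [← pow_three', S.cube]; group

theorem q_ne_one : q ≠ 1 := fun h => S.q_ne (by rw [h]; group)

/-- Vectors fixed by `q` and inverted by its conjugate. -/
def Y (ρ : Representation (ZMod 3) G V) (b q : G) (v : V) : Prop :=
  ρ q v = v ∧ ρ (b * q * b⁻¹) v = -v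

theorem exists_Y : ∃ w : V, w ≠ 0 ∧ Y ρ b q w := by
  obtain ⟨v, hv⟩ : ∃ v, ρ q v ≠ v := by
    by_contra h
    push_neg at h
    exact S.q_ne_one (S.inj (by rw [map_one]; exact LinearMap.ext fun v => h v))
  obtain ⟨w, -, hw0, hw⟩ := exists_eigen S.cube S.q_sq S.q_comm S.q_prod (N := ⊤)
    (fun _ _ => Submodule.mem_top) (fun _ _ => Submodule.mem_top) (Submodule.mem_top : v ∈ ⊤) hv
  exact ⟨w, hw0, hw⟩

theorem Y_line [Finite V] {w v : V} (hw0 : w ≠ 0) (hw : Y ρ b q w) (hv : Y ρ b q v) :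
    ∃ c : ZMod 3, v = c • w := by
  set q1 := b * q * b⁻¹ with hq1
  set p : Module.End (ZMod 3) V := 1 + ρ q - ρ q1 - ρ (q * q1) with hp
  have papp : ∀ x, p x = x + ρ q x - ρ q1 x - ρ q (ρ q1 x) := fun x => by
    rw [← rho_mul]; rfl
  have pfix : ∀ x, Y ρ b q x → p x = x := fun x hx => by
    rw [papp, hx.1, hx.2, map_neg, hx.1]
    calc x + x - -x - -x = x + x + x + x := by abel
      _ = x := four_smul x
  have shift : ∀ x : V, ∀ g : G, ρ (b * g * b⁻¹) (ρ b x) = ρ b (ρ g x) := fun x g => by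
    rw [← rho_mul, ← rho_mul]; congr 1; group
  have k1 : ∀ x, Y ρ b q x → p (ρ b x) = 0 := fun x hx => by
    have e1 : ρ q1 (ρ b x) = ρ b x := by rw [hq1, shift, hx.1]
    rw [papp, e1]
    abel
  have k2 : ∀ x, Y ρ b q x → p (ρ b (ρ b x)) = 0 := fun x hx => by
    have e0 : ρ (q * q1) (ρ b (ρ b x)) = ρ b (ρ b x) := by
      rw [hq1, ← S.b2_q, shift, shift, hx.1]
    have e2 : ρ q (ρ b (ρ b x)) = -ρ b (ρ b x) := by
      have h := shift (ρ b x) (b * q1 * b⁻¹)
      rw [hq1, S.b3_q, shift, hx.2] at h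
      rw [h, map_neg, map_neg]
    rw [rho_mul] at e0
    rw [papp, e0, e2]
    have e4 : ρ q1 (ρ b (ρ b x)) = -ρ b (ρ b x) := by
      have := congrArg (ρ q) e0
      rw [← rho_mul q q, S.q_sq, map_one, e2] at this
      exact this
    rw [e4]
    abel
  by_contra hc
  push_neg at hc
  refine S.key p (k1 w hw) (k2 w hw) (k1 v hv) (k2 v hv) ?_
  rw [pfix w hw, pfix v hv, LinearIndependent.pair_iff]
  intro s t hst
  rcases zmod_three_cases t with rfl | rfl | rfl
  · refine ⟨?_, rfl⟩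
    rw [zero_smul, add_zero] at hst
    exact (smul_eq_zero.1 hst).resolve_right hw0
  · exfalso
    rw [one_smul] at hst
    exact hc (-s) (by rw [neg_smul]; exact eq_neg_of_add_eq_zero_right hst)
  · exfalso
    rw [neg_one_smul, ← sub_eq_add_neg, sub_eq_zero] at hst
    exact hc s hst.symm

/-- An element commuting with the four-group acts on the line. -/
theorem line_smul [Finite V] {x : G} (h : x * q = q * x)
    (h' : x * (b * q * b⁻¹) = b * q * b⁻¹ * x) {w : V} (hw0 : w ≠ 0) (hw : Y ρ b q w) :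
    ρ x w = w ∨ ρ x w = -w := by
  obtain ⟨c, hc⟩ := S.Y_line hw0 hw (v := ρ x w) ⟨by rw [← rho_mul, ← h, rho_mul, hw.1], by
    rw [← rho_mul, ← h', rho_mul, hw.2, map_neg]⟩
  rcases zmod_three_cases c with rfl | rfl | rfl
  · exfalso
    rw [zero_smul] at hc
    exact hw0 (by rw [← rho_inv (ρ := ρ) x w, hc, map_zero])
  · exact Or.inl (by rw [hc, one_smul])
  · exact Or.inr (by rw [hc, neg_one_smul])

theorem fix_eq_bot {A : Subgroup G} [A.Normal] (hA : A ≠ ⊥) : fixSub ρ A = ⊥ := by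
  refine (S.irr _ fun g v hv => fixSub_invariant ρ A g hv).resolve_right fun h => hA ?_
  refine (Subgroup.eq_bot_iff_forall A).2 fun a ha => S.inj ?_
  rw [map_one]
  exact LinearMap.ext fun v => (show v ∈ fixSub ρ A from h ▸ Submodule.mem_top) a ha

theorem le_centralizer_of_commute {A : Subgroup G} [A.Normal] (h : ∀ a ∈ A, b * a = a * b) :
    R ≤ centralizer (A : Set G) := by
  refine S.comm _ fun r _ => ?_
  have hb : b ∈ centralizer (A : Set G) := mem_centralizer_iff.2 fun a ha => (h a ha).symm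
  have := Subgroup.mul_mem _ hb (Normal.conj_mem (inferInstance) _ (inv_mem hb) r)
  convert this using 1
  group

theorem le_centralizer_of_cyclic {A : Subgroup G} [A.Normal] {a : G}
    (ha : A = zpowers a) : R ≤ centralizer (A : Set G) := by
  refine S.comm _ fun r _ => ?_
  have hk : ∀ g : G, ∃ k : ℤ, ∀ y ∈ A, g * y * g⁻¹ = y ^ k := by
    intro g
    obtain ⟨k, hk⟩ := mem_zpowers_iff.1
      (ha ▸ Normal.conj_mem ‹_› a (ha ▸ mem_zpowers a) g : g * a * g⁻¹ ∈ zpowers a)
    refine ⟨k, fun y hy => ?_⟩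
    obtain ⟨m, rfl⟩ := mem_zpowers_iff.1 (ha ▸ hy : y ∈ zpowers a)
    rw [← conj_zpow, ← hk, ← zpow_mul, ← zpow_mul, mul_comm]
  obtain ⟨k, hk1⟩ := hk b
  obtain ⟨l, hl⟩ := hk r
  refine mem_centralizer_iff.2 fun y₀ hy₀ => ?_
  set y := (r * b)⁻¹ * y₀ * (r * b) with hy'
  have hy : y ∈ A := by
    simpa [hy', mul_assoc] using Normal.conj_mem ‹A.Normal› y₀ hy₀ (r * b)⁻¹
  have e : (b * r) * y * (b * r)⁻¹ = (r * b) * y * (r * b)⁻¹ := by
    calc (b * r) * y * (b * r)⁻¹ = b * (r * y * r⁻¹) * b⁻¹ := by group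
      _ = (y ^ l) ^ k := by rw [hl y hy, hk1 _ (zpow_mem hy l)]
      _ = (y ^ k) ^ l := by rw [← zpow_mul, ← zpow_mul, mul_comm]
      _ = r * (b * y * b⁻¹) * r⁻¹ := by rw [hk1 y hy, hl _ (zpow_mem hy k)]
      _ = _ := by group
  have e1 : (r * b) * y * (r * b)⁻¹ = y₀ := by rw [hy']; group
  rw [e1] at e
  calc y₀ * (b * r * b⁻¹ * r⁻¹) = ((b * r) * y * (b * r)⁻¹) * (b * r * b⁻¹ * r⁻¹) := by rw [e]
    _ = b * r * b⁻¹ * r⁻¹ * y₀ := by rw [hy']; group

/-- An abelian normal subgroup of odd order commuting with `q` is trivial. -/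
theorem eq_bot_of_odd [Finite V] {A : Subgroup G} [A.Normal] (hodd : ∀ a ∈ A, ∃ m, Odd m ∧ a ^ m = 1)
    (hq : ∀ a ∈ A, a * q = q * a) : A = ⊥ := by
  by_contra hA
  obtain ⟨w, hw0, hw⟩ := S.exists_Y
  suffices hfix : w ∈ fixSub ρ A by
    rw [S.fix_eq_bot hA, Submodule.mem_bot] at hfix
    exact hw0 hfix
  intro a ha
  have h' : a * (b * q * b⁻¹) = b * q * b⁻¹ * a := by
    have h1 := hq _ (by simpa using Normal.conj_mem ‹A.Normal› a ha b⁻¹ : b⁻¹ * a * b ∈ A)
    calc a * (b * q * b⁻¹) = b * (b⁻¹ * a * b * q) * b⁻¹ := by group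
      _ = b * (q * (b⁻¹ * a * b)) * b⁻¹ := by rw [h1]
      _ = _ := by group
  refine (S.line_smul (hq a ha) h' hw0 hw).resolve_right fun h => ?_
  obtain ⟨m, hm, hm1⟩ := hodd a ha
  have hp : ∀ i : ℕ, ρ (a ^ i) w = (-1 : ZMod 3) ^ i • w := by
    intro i
    induction i with
    | zero => simp
    | succ i ih =>
      rw [pow_succ', rho_mul, ih, map_smul, h, smul_neg, pow_succ', mul_smul, neg_one_smul]
  have := hp m
  rw [hm1, map_one, hm.neg_one_pow, neg_one_smul] at this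
  have hw' : w + w = 0 := eq_neg_iff_add_eq_zero.1 this
  exact hw0 (by
    have := four_smul w
    rw [hw', zero_add, hw'] at this
    exact this.symm)

/-- A central element of `R` is `1` or acts as `-1`. -/
theorem central_cases [Finite V] {x : G} (hx : ∀ g, x * g = g * x) :
    x = 1 ∨ ρ x = -1 := by
  obtain ⟨w, hw0, hw⟩ := S.exists_Y
  have aux : ∀ c : ZMod 3, ρ x w = c • w → ρ x = c • 1 := by
    intro c hc
    have hwk : w ∈ LinearMap.ker (ρ x - c • 1) := by
      rw [LinearMap.mem_ker, LinearMap.sub_apply, sub_eq_zero]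
      exact hc
    have := (S.irr (LinearMap.ker (ρ x - c • 1)) fun g v hv => by
      rw [LinearMap.mem_ker, LinearMap.sub_apply, sub_eq_zero] at hv ⊢
      show ρ x (ρ g v) = c • ρ g v
      rw [← rho_mul, hx, rho_mul, hv]
      exact map_smul _ _ _).resolve_left fun h => hw0 (by
        rwa [h, Submodule.mem_bot] at hwk)
    rw [LinearMap.ker_eq_top, sub_eq_zero] at this
    exact this
  rcases S.line_smul (hx q) (hx _) hw0 hw with h | h
  · exact Or.inl (S.inj (by rw [aux 1 (by rw [one_smul]; exact h), map_one, one_smul]))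
  · exact Or.inr (by rw [aux (-1) (by rw [neg_one_smul]; exact h), neg_one_smul])

end Setup

end Cfsg.Agent.Lib.CubicBlock
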